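import Groth.Prelude.Def_PP16

/-! Universal property of the rings of principal parts. -/

set_option autoImplicit false

open scoped TensorProduct

namespace Groth.Agent.H06PP

universe u v

variable (n : ℕ) (A B : Type u) [CommRing A] [CommRing B] [Algebra A B]

theorem mk_tmul (b c : B) :
    (Ideal.Quotient.mk _ (b ⊗ₜ[A] c) : PP16.P n A B) =
      algebraMap B (PP16.P n A B) b * PP16.dn n A B c := by
  show _ = Ideal.Quotient.mk _ (b ⊗ₜ[A] (1 : B)) * Ideal.Quotient.mk _ ((1 : B) ⊗ₜ[A] c)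
  rw [← map_mul, Algebra.TensorProduct.tmul_mul_tmul, mul_one, one_mul]

theorem dn_sub_mem (b : B) :
    PP16.dn n A B b - algebraMap B (PP16.P n A B) b ∈ PP16.augIdeal n A B := by
  show Ideal.Quotient.mk _ ((1 : B) ⊗ₜ[A] b) - Ideal.Quotient.mk _ (b ⊗ₜ[A] (1 : B)) ∈ _
  rw [← map_sub]
  exact Ideal.mem_map_of_mem _ (KaehlerDifferential.one_smul_sub_smul_one_mem_ideal A b)

theorem augIdeal_pow : PP16.augIdeal n A B ^ (n + 1) = ⊥ := by
  rw [PP16.augIdeal, ← Ideal.map_pow, Ideal.map_quotient_self]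

theorem augIdeal_eq_span : PP16.augIdeal n A B =
    Ideal.span (Set.range fun b : B => PP16.dn n A B b - algebraMap B (PP16.P n A B) b) := by
  refine (congrArg (Ideal.map _) (KaehlerDifferential.span_range_eq_ideal A B).symm).trans ?_
  rw [Ideal.map_span, ← Set.range_comp]
  congr 1

variable {n A B}

theorem ringHom_ext {Q : Type v} [Ring Q] {f g : PP16.P n A B →+* Q}
    (h1 : ∀ b, f (algebraMap B (PP16.P n A B) b) = g (algebraMap B (PP16.P n A B) b))
    (h2 : ∀ b, f (PP16.dn n A B b) = g (PP16.dn n A B b)) : f = g := by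
  refine RingHom.ext fun x => ?_
  obtain ⟨x, rfl⟩ := Ideal.Quotient.mk_surjective x
  induction x using TensorProduct.induction_on with
  | zero => simp
  | add x y hx hy => rw [map_add, map_add, map_add, hx, hy]
  | tmul b c => rw [mk_tmul, map_mul, map_mul, h1, h2]

theorem map_augIdeal_pow {Q : Type v} [CommRing Q] (f : PP16.P n A B →+* Q) :
    (PP16.augIdeal n A B).map f ^ (n + 1) = ⊥ := by
  rw [← Ideal.map_pow, augIdeal_pow, Ideal.map_bot]

theorem map_dn_sub_mem {Q : Type v} [CommRing Q] (f : PP16.P n A B →+* Q) (b : B) :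
    f (PP16.dn n A B b) - f (algebraMap B (PP16.P n A B) b) ∈ (PP16.augIdeal n A B).map f := by
  rw [← map_sub]
  exact Ideal.mem_map_of_mem f (dn_sub_mem n A B b)

variable {Q : Type v} [CommRing Q] [Algebra A Q] [Algebra B Q] [IsScalarTower A B Q]

/-- A second `A`-algebra map congruent to the structure map modulo a nilpotent ideal factors
through the principal parts. -/
noncomputable def desc (δ : B →ₐ[A] Q) (N : Ideal Q) (hN : N ^ (n + 1) = ⊥)
    (hδ : ∀ b, δ b - algebraMap B Q b ∈ N) : PP16.P n A B →ₐ[B] Q :=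
  Ideal.Quotient.liftₐ _
    (Algebra.TensorProduct.lift (Algebra.ofId B Q) δ fun _ _ => Commute.all _ _) fun x hx => by
      let Φ := Algebra.TensorProduct.lift (Algebra.ofId B Q) δ fun _ _ => Commute.all _ _
      have h1 : (KaehlerDifferential.ideal A B).map Φ.toRingHom ≤ N := by
        rw [← KaehlerDifferential.span_range_eq_ideal, Ideal.map_span, Ideal.span_le]
        rintro _ ⟨_, ⟨s, rfl⟩, rfl⟩
        show Φ ((1 : B) ⊗ₜ s - s ⊗ₜ 1) ∈ N
        simpa [Φ] using hδ s
      have h2 := Ideal.pow_right_mono h1 (n + 1)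
      rw [← Ideal.map_pow, hN] at h2
      exact Ideal.mem_bot.mp (h2 (Ideal.mem_map_of_mem Φ.toRingHom hx))

variable {δ : B →ₐ[A] Q} {N : Ideal Q} {hN : N ^ (n + 1) = ⊥}
  {hδ : ∀ b, δ b - algebraMap B Q b ∈ N}

@[simp]
theorem desc_dn (b : B) : desc δ N hN hδ (PP16.dn n A B b) = δ b := by
  show (Algebra.TensorProduct.lift (Algebra.ofId B Q) δ fun _ _ => Commute.all _ _) ((1 : B) ⊗ₜ b) = δ b
  simp

theorem map_surjective (n : ℕ) (A B A' B' : Type u) [CommRing A] [CommRing B] [Algebra A B]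
    [CommRing A'] [CommRing B'] [Algebra A' B'] [Algebra A A'] [Algebra B B'] [Algebra A B']
    [IsScalarTower A A' B'] [IsScalarTower A B B'] (h : Function.Surjective (algebraMap B B')) :
    Function.Surjective (PP16.map n A B A' B') := by
  intro x
  obtain ⟨x, rfl⟩ := Ideal.Quotient.mk_surjective x
  induction x using TensorProduct.induction_on with
  | zero => exact ⟨0, by simp⟩
  | add x y hx hy =>
    obtain ⟨a, ha⟩ := hx
    obtain ⟨b, hb⟩ := hy
    exact ⟨a + b, by rw [map_add, ha, hb, map_add]⟩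
  | tmul b c =>
    obtain ⟨b, rfl⟩ := h b
    obtain ⟨c, rfl⟩ := h c
    exact ⟨algebraMap B _ b * PP16.dn n A B c, by
      rw [map_mul, PP16.map_algebraMap, PP16.map_dn, mk_tmul]⟩

theorem map_augIdeal_le (n : ℕ) (A B A' B' : Type u) [CommRing A] [CommRing B] [Algebra A B]
    [CommRing A'] [CommRing B'] [Algebra A' B'] [Algebra A A'] [Algebra B B'] [Algebra A B']
    [IsScalarTower A A' B'] [IsScalarTower A B B'] :
    (PP16.augIdeal n A B).map (PP16.map n A B A' B') ≤ PP16.augIdeal n A' B' := by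
  rw [augIdeal_eq_span, Ideal.map_span, Ideal.span_le]
  rintro _ ⟨_, ⟨b, rfl⟩, rfl⟩
  rw [SetLike.mem_coe, map_sub, PP16.map_dn, PP16.map_algebraMap]
  exact dn_sub_mem n A' B' _

/-- Kernel of a functoriality map with surjective `B → B'`. -/
theorem ker_map_le {n : ℕ} {A B A' B' : Type u} [CommRing A] [CommRing B] [Algebra A B]
    [CommRing A'] [CommRing B'] [Algebra A' B'] [Algebra A A'] [Algebra B B'] [Algebra A B']
    [IsScalarTower A A' B'] [IsScalarTower A B B'] (hs : Function.Surjective (algebraMap B B'))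
    {Q : Type u} [CommRing Q] (q : PP16.P n A B →+* Q) (ι δ : B' →+* Q)
    (h1 : ∀ b, q (algebraMap B (PP16.P n A B) b) = ι (algebraMap B B' b))
    (h2 : ∀ b, q (PP16.dn n A B b) = δ (algebraMap B B' b))
    (hA : ∀ a, δ (algebraMap A' B' a) = ι (algebraMap A' B' a)) :
    RingHom.ker (PP16.map n A B A' B') ≤ RingHom.ker q := by
  intro x hx
  letI : Algebra B' Q := ι.toAlgebra
  letI : Algebra A' Q := (ι.comp (algebraMap A' B')).toAlgebra
  haveI : IsScalarTower A' B' Q := .of_algebraMap_eq fun _ => rfl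
  let δ' : B' →ₐ[A'] Q := { δ with commutes' := hA }
  let ψ := desc (n := n) δ' ((PP16.augIdeal n A B).map q) (map_augIdeal_pow q) fun c => by
    obtain ⟨b, rfl⟩ := hs c
    show δ (algebraMap B B' b) - ι (algebraMap B B' b) ∈ _
    rw [← h1, ← h2]
    exact map_dn_sub_mem q b
  have key : ψ.toRingHom.comp (PP16.map n A B A' B').toRingHom = q := by
    refine ringHom_ext (fun c => ?_) (fun c => ?_)
    · show ψ (PP16.map n A B A' B' (algebraMap B _ c)) = _
      rw [PP16.map_algebraMap, AlgHom.commutes, h1]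
      rfl
    · show ψ (PP16.map n A B A' B' (PP16.dn n A B c)) = _
      rw [PP16.map_dn, desc_dn, h2]
      rfl
  have hx' := RingHom.congr_fun key x
  rw [RingHom.comp_apply, show (PP16.map n A B A' B').toRingHom x = 0 from hx, map_zero] at hx'
  exact hx'.symm

theorem map_pow_eq_bot {n : ℕ} {A B : Type u} [CommRing A] [CommRing B] [Algebra A B]
    {Q : Type u} [CommRing Q] (q : PP16.P n A B →+* Q) (θ : B →+* Q) (K : Ideal B)
    (hle : ∀ b ∈ K, ∃ y ∈ PP16.augIdeal n A B, q y = θ b) : K ^ (n + 1) ≤ RingHom.ker θ := by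
  have h : K.map θ ≤ (PP16.augIdeal n A B).map q := by
    rw [Ideal.map_le_iff_le_comap]
    intro b hb
    obtain ⟨y, hy, e⟩ := hle b hb
    exact Ideal.mem_comap.mpr (e ▸ Ideal.mem_map_of_mem q hy)
  rw [← Ideal.map_eq_bot_iff_le_ker, Ideal.map_pow, ← le_bot_iff, ← map_augIdeal_pow q]
  exact Ideal.pow_right_mono h _

section Equiv

variable {n : ℕ} {A B : Type u} [CommRing A] [CommRing B] [Algebra A B]
  {Q : Type u} [CommRing Q] [Algebra A Q] [Algebra B Q] [IsScalarTower A B Q]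

theorem sub_mem_of_generators (δ : B →ₐ[A] Q) (N : Ideal Q) {s : Set B} (hs : Algebra.adjoin A s = ⊤)
    (h : ∀ b ∈ s, δ b - algebraMap B Q b ∈ N) (b : B) : δ b - algebraMap B Q b ∈ N := by
  rw [← Ideal.Quotient.mk_eq_mk_iff_sub_mem]
  have := AlgHom.ext_of_adjoin_eq_top hs (φ₁ := (Ideal.Quotient.mkₐ A N).comp δ)
    (φ₂ := (Ideal.Quotient.mkₐ A N).comp (IsScalarTower.toAlgHom A B Q))
    (fun x hx => (Ideal.Quotient.mk_eq_mk_iff_sub_mem _ _).mpr (h x hx))
  exact AlgHom.congr_fun this b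

/-- Recognise the principal parts by their universal property. -/
noncomputable def equivOfInverse (δ : B →ₐ[A] Q) (N : Ideal Q) (hN : N ^ (n + 1) = ⊥)
    (hδ : ∀ b, δ b - algebraMap B Q b ∈ N) (θ : Q →ₐ[B] PP16.P n A B)
    (h1 : ∀ b, θ (δ b) = PP16.dn n A B b) (h2 : (desc δ N hN hδ).comp θ = AlgHom.id B Q) :
    PP16.P n A B ≃ₐ[B] Q :=
  AlgEquiv.ofAlgHom (desc δ N hN hδ) θ h2 <| by
    apply AlgHom.coe_ringHom_injective
    refine ringHom_ext (fun b => ?_) (fun b => ?_)
    · show θ (desc δ N hN hδ (algebraMap B _ b)) = algebraMap B _ b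
      rw [AlgHom.commutes, AlgHom.commutes]
    · show θ (desc δ N hN hδ (PP16.dn n A B b)) = PP16.dn n A B b
      rw [desc_dn, h1]

theorem equivOfInverse_dn (δ : B →ₐ[A] Q) (N : Ideal Q) (hN : N ^ (n + 1) = ⊥)
    (hδ : ∀ b, δ b - algebraMap B Q b ∈ N) (θ : Q →ₐ[B] PP16.P n A B)
    (h1 : ∀ b, θ (δ b) = PP16.dn n A B b) (h2 : (desc δ N hN hδ).comp θ = AlgHom.id B Q) (b : B) :
    equivOfInverse δ N hN hδ θ h1 h2 (PP16.dn n A B b) = δ b := desc_dn (hN := hN) (hδ := hδ) b

/-- Algebra maps into principal parts landing in the augmentation ideal kill `(n+1)`-st powers. -/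
theorem pow_le_ker {R : Type u} [CommRing R] (θ : R →+* PP16.P n A B) (I : Ideal R)
    (h : ∀ x ∈ I, θ x ∈ PP16.augIdeal n A B) : I ^ (n + 1) ≤ RingHom.ker θ := by
  rw [← Ideal.map_eq_bot_iff_le_ker, Ideal.map_pow, ← le_bot_iff, ← augIdeal_pow n A B]
  exact Ideal.pow_right_mono (Ideal.map_le_iff_le_comap.mpr h) _

theorem map_pow_of_ker {R C : Type u} [CommRing R] [CommRing C] (p : R →+* C) (I : Ideal R)
    (h : RingHom.ker p = I ^ (n + 1)) : I.map p ^ (n + 1) = ⊥ := by
  rw [← Ideal.map_pow, Ideal.map_eq_bot_iff_le_ker, h]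

end Equiv

end Groth.Agent.H06PP
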