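import Groth.Agent.H06PP.Lifts
import Groth.Agent.H06DiffOp.Basic

/-! Monomials in `1 ⊗ z_i - z_i ⊗ 1`, quasi-regularity, and the dual differential operators. -/

set_option autoImplicit false

open scoped TensorProduct BigOperators

namespace Groth.Agent.H06PP.Monomials

universe u

open Graded

variable {A B : Type u} [CommRing A] [CommRing B] [Algebra A B] {σ : Type} (z : σ → B)

local notation "I" => KaehlerDifferential.ideal A B
local notation "J" => MvPolynomial.idealOfVars σ B

variable (A) in
/-- Evaluation at the elements `1 ⊗ z_i - z_i ⊗ 1`. -/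
noncomputable def ev : MvPolynomial σ B →ₐ[B] B ⊗[A] B :=
  MvPolynomial.aeval fun i => zeta A B (z i)

variable (A) in
/-- Quasi-regularity of the diagonal with respect to `z`. -/
def QR : Prop :=
  ∀ (k : ℕ) (f : MvPolynomial σ B), f.IsHomogeneous k → ev A z f ∈ I ^ (k + 1) → f = 0

theorem ev_mem {k : ℕ} {f : MvPolynomial σ B} (hf : f ∈ J ^ k) : ev A z f ∈ I ^ k := by
  have h : J ≤ (I).comap (ev A z).toRingHom := by
    refine Ideal.span_le.mpr ?_
    rintro _ ⟨i, rfl⟩
    show ev A z (MvPolynomial.X i) ∈ I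
    rw [ev, MvPolynomial.aeval_X]
    exact zeta_mem A B _
  exact (Ideal.pow_right_mono h k).trans (Ideal.le_comap_pow _ k) hf

theorem isHomogeneous_mem {k : ℕ} {f : MvPolynomial σ B} (hf : f.IsHomogeneous k) : f ∈ J ^ k := by
  rw [MvPolynomial.mem_pow_idealOfVars_iff]
  intro d hd
  rw [hf.degree_eq_sum_deg_support hd]
  exact (Finsupp.degree_apply d).symm ▸ le_rfl

section Span

variable (hz : Submodule.span B (Set.range fun i => KaehlerDifferential.D A B (z i)) = ⊤)
include hz

theorem exists_step {k : ℕ} {x : B ⊗[A] B} (hx : x ∈ I ^ k) :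
    ∃ f ∈ J ^ k, x - ev A z f ∈ I ^ (k + 1) := by
  obtain ⟨ι, _, rfl⟩ : ∃ (ι : Type u) (_ : Fintype ι), Fintype.card ι = k :=
    ⟨ULift.{u} (Fin k), inferInstance, by simp⟩
  obtain ⟨t, ht⟩ := phi_surjective (A := A) (B := B) (ι := ι) (cls _ x hx)
  suffices ∀ t : SymmetricPower B ι (KaehlerDifferential A B), ∃ f ∈ J ^ Fintype.card ι,
      ∀ h, phi t = cls _ (ev A z f) h by
    obtain ⟨f, hf, he⟩ := this t
    exact ⟨f, hf, (cls_eq_iff _ _).mp (ht.symm.trans (he (ev_mem z hf)))⟩
  clear ht t hx x
  intro t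
  have ht : t ∈ Submodule.span B (Set.range fun g : ι → σ =>
      SymmetricPower.tprod B fun i => KaehlerDifferential.D A B (z (g i))) := by
    rw [SymPow.span_tprod_comp _ hz]; trivial
  induction ht using Submodule.span_induction with
  | mem y hy =>
    obtain ⟨g, rfl⟩ := hy
    refine ⟨∏ i, MvPolynomial.X (g i), ?_, fun h => ?_⟩
    · exact PP16.prod_mem_pow (J) Finset.univ (fun i => MvPolynomial.X (g i))
        fun i _ => Ideal.subset_span ⟨g i, rfl⟩
    · rw [phi_tprod_D]
      refine cls_eq _ _ ?_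
      show ∏ i, zeta A B (z (g i)) - ev A z (∏ i, MvPolynomial.X (g i)) ∈ _
      rw [map_prod]
      simp only [ev, MvPolynomial.aeval_X, sub_self]
      exact zero_mem _
  | zero =>
    refine ⟨0, zero_mem _, fun h => ?_⟩
    rw [map_zero]
    exact ((cls_eq_zero h).mpr (by rw [map_zero]; exact zero_mem _)).symm
  | add a c _ _ ha hc =>
    obtain ⟨f, hf, hfa⟩ := ha
    obtain ⟨g, hg, hgc⟩ := hc
    refine ⟨f + g, add_mem hf hg, fun h => ?_⟩
    rw [map_add, hfa (ev_mem z hf), hgc (ev_mem z hg)]
    exact congrArg Submodule.Quotient.mk (Subtype.ext (map_add (ev A z) f g).symm)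
  | smul r a _ ha =>
    obtain ⟨f, hf, hfa⟩ := ha
    refine ⟨r • f, Submodule.smul_of_tower_mem _ r hf, fun h => ?_⟩
    rw [map_smul, hfa (ev_mem z hf)]
    exact congrArg Submodule.Quotient.mk (Subtype.ext ((ev A z).toLinearMap.map_smul r f).symm)

theorem exists_reduce (d : ℕ) {k : ℕ} {x : B ⊗[A] B} (hx : x ∈ I ^ k) :
    ∃ f ∈ J ^ k, x - ev A z f ∈ I ^ (k + d) := by
  induction d with
  | zero => exact ⟨0, zero_mem _, by simpa using hx⟩
  | succ d ih =>
    obtain ⟨f, hf, hfx⟩ := ih
    obtain ⟨g, hg, hgx⟩ := exists_step z hz hfx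
    refine ⟨f + g, add_mem hf (Ideal.pow_le_pow_right (by omega) hg), ?_⟩
    rw [map_add, ← sub_sub]
    exact hgx

end Span

theorem mem_of_ev_mem (hqr : QR A z) {m : ℕ} {f : MvPolynomial σ B} (hf : ev A z f ∈ I ^ m) :
    f ∈ J ^ m := by
  suffices ∀ k ≤ m, f ∈ J ^ k from this m le_rfl
  intro k
  induction k with
  | zero => intro _; simp
  | succ k ih =>
    intro hk
    have h1 := ih (by omega)
    let fk := MvPolynomial.homogeneousComponent k f
    have h2 : f - fk ∈ J ^ (k + 1) := by
      rw [MvPolynomial.mem_pow_idealOfVars_iff']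
      intro x hx
      rw [MvPolynomial.coeff_sub, MvPolynomial.coeff_homogeneousComponent]
      split_ifs with hd
      · exact sub_self _
      · rw [(MvPolynomial.mem_pow_idealOfVars_iff' k f).mp h1 x (by omega), sub_zero]
    have h3 : fk = 0 := by
      refine hqr k fk (MvPolynomial.homogeneousComponent_isHomogeneous k f) ?_
      rw [show fk = f - (f - fk) by ring, map_sub]
      exact sub_mem (Ideal.pow_le_pow_right hk hf) (ev_mem z h2)
    rwa [h3, sub_zero] at h2

theorem qr_of_basis (b : Module.Basis σ B (KaehlerDifferential A B))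
    (hb : ∀ i, b i = KaehlerDifferential.D A B (z i))
    (hinj : ∀ (ι : Type u) [Fintype ι], Function.Injective (phi (A := A) (B := B) (ι := ι))) :
    QR A z := by
  classical
  intro k f hf he
  obtain ⟨ι, _, rfl⟩ : ∃ (ι : Type u) (_ : Fintype ι), Fintype.card ι = k :=
    ⟨ULift.{u} (Fin k), inferInstance, by simp⟩
  choose g hg using fun d : f.support => SymPow.exists_sum_single (ι := ι) (d : σ →₀ ℕ)
    ((hf.degree_eq_sum_deg_support d.2).symm)
  let t : SymmetricPower B ι (KaehlerDifferential A B) :=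
    ∑ d : f.support, f.coeff (d : σ →₀ ℕ) • SymmetricPower.tprod B fun i =>
      KaehlerDifferential.D A B (z (g d i))
  let L : KaehlerDifferential A B →ₗ[B] MvPolynomial σ B := b.constr B fun i => MvPolynomial.X i
  have h1 : SymPow.eval L t = f := by
    have h1' : ∀ d : f.support, SymPow.eval L (SymmetricPower.tprod B fun i =>
        KaehlerDifferential.D A B (z (g d i))) = MvPolynomial.monomial (d : σ →₀ ℕ) 1 := fun d => by
      rw [SymPow.eval_tprod]
      simp only [L, ← hb, Module.Basis.constr_basis]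
      rw [SymPow.prod_X_eq_monomial, hg]
    simp only [t, map_sum, map_smul, h1', MvPolynomial.smul_monomial, smul_eq_mul, mul_one]
    rw [Finset.sum_coe_sort f.support fun d => MvPolynomial.monomial d (f.coeff d)]
    exact (MvPolynomial.as_sum f).symm
  have h2 : ∀ d : f.support, phi (SymmetricPower.tprod B fun i => KaehlerDifferential.D A B (z (g d i))) =
      cls _ (ev A z (MvPolynomial.monomial (d : σ →₀ ℕ) 1))
        (ev_mem z (isHomogeneous_mem (MvPolynomial.isHomogeneous_monomial _
          ((Finsupp.degree_apply _).trans (hf.degree_eq_sum_deg_support d.2).symm)))) := fun d => by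
    rw [phi_tprod_D]
    refine cls_eq _ _ ?_
    show ∏ i, zeta A B (z (g d i)) - _ ∈ _
    rw [← hg d, ← SymPow.prod_X_eq_monomial, map_prod]
    simp only [ev, MvPolynomial.aeval_X, sub_self]
    exact zero_mem _
  have h3 : phi t = cls _ (ev A z f) (ev_mem z (isHomogeneous_mem hf)) := by
    simp only [t, map_sum, map_smul, h2]
    let q := Submodule.mkQ (((I ^ (Fintype.card ι + 1)).restrictScalars B).comap
      ((I ^ Fintype.card ι).restrictScalars B).subtype)
    show ∑ d : f.support, f.coeff (d : σ →₀ ℕ) • q _ = q _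
    simp only [← map_smul, ← map_sum]
    refine congrArg q (Subtype.ext ?_)
    rw [Submodule.coe_sum]
    simp only [Submodule.coe_smul]
    conv_rhs => rw [MvPolynomial.as_sum f, map_sum, ← Finset.sum_coe_sort f.support]
    refine Finset.sum_congr rfl fun d _ => ?_
    show f.coeff (d : σ →₀ ℕ) • (ev A z).toLinearMap _ = _
    rw [← map_smul]
    simp [MvPolynomial.smul_monomial]
  rw [← h1, hinj ι (h3.trans (((cls_eq_zero _).mpr he).trans (map_zero (phi (A := A) (B := B) (ι := ι))).symm)), map_zero]

theorem phi_injective_of_qr (b : Module.Basis σ B (KaehlerDifferential A B))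
    (hb : ∀ i, b i = KaehlerDifferential.D A B (z i)) (hqr : QR A z) (ι : Type u) [Fintype ι] :
    Function.Injective (phi (A := A) (B := B) (ι := ι)) := by
  classical
  refine LinearMap.ker_eq_bot.mp ((Submodule.eq_bot_iff _).mpr fun t ht => ?_)
  rw [LinearMap.mem_ker] at ht
  let L : KaehlerDifferential A B →ₗ[B] MvPolynomial σ B := b.constr B fun i => MvPolynomial.X i
  suffices ∀ t : SymmetricPower B ι (KaehlerDifferential A B),
      (SymPow.eval L t).IsHomogeneous (Fintype.card ι) ∧
        ∀ h, phi t = cls _ (ev A z (SymPow.eval L t)) h by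
    obtain ⟨h1, h2⟩ := this t
    have h3 := h2 (ev_mem z (isHomogeneous_mem h1))
    rw [ht] at h3
    refine SymPow.eval_injective b ?_
    rw [hqr _ _ h1 ((cls_eq_zero _).mp h3.symm), map_zero]
  clear ht t
  intro t
  have hspan : Submodule.span B (Set.range fun i => KaehlerDifferential.D A B (z i)) = ⊤ := by
    rw [← funext hb]; exact b.span_eq
  have ht : t ∈ Submodule.span B (Set.range fun g : ι → σ =>
      SymmetricPower.tprod B fun i => KaehlerDifferential.D A B (z (g i))) := by
    rw [SymPow.span_tprod_comp _ hspan]; trivial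
  induction ht using Submodule.span_induction with
  | mem y hy =>
    obtain ⟨g, rfl⟩ := hy
    have he : SymPow.eval L (SymmetricPower.tprod B fun i => KaehlerDifferential.D A B (z (g i))) =
        ∏ i, MvPolynomial.X (g i) := by
      rw [SymPow.eval_tprod]; simp only [L, ← hb, Module.Basis.constr_basis]
    refine ⟨?_, fun h => ?_⟩
    · rw [he, show Fintype.card ι = ∑ _i : ι, 1 by simp]
      exact MvPolynomial.IsHomogeneous.prod _ _ _ fun i _ => MvPolynomial.isHomogeneous_X _ _
    · rw [phi_tprod_D]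
      refine cls_eq _ _ ?_
      show ∏ i, zeta A B (z (g i)) - _ ∈ _
      rw [he, map_prod]
      simp only [ev, MvPolynomial.aeval_X, sub_self]
      exact zero_mem _
  | zero =>
    rw [map_zero]
    refine ⟨MvPolynomial.isHomogeneous_zero .., fun h => ?_⟩
    rw [map_zero]
    exact ((cls_eq_zero h).mpr (by rw [map_zero]; exact zero_mem _)).symm
  | add a c _ _ ha hc =>
    rw [map_add]
    refine ⟨ha.1.add hc.1, fun h => ?_⟩
    rw [map_add, ha.2 (ev_mem z (isHomogeneous_mem ha.1)), hc.2 (ev_mem z (isHomogeneous_mem hc.1))]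
    exact congrArg Submodule.Quotient.mk (Subtype.ext (map_add (ev A z) _ _).symm)
  | smul r a _ ha =>
    rw [map_smul]
    refine ⟨(MvPolynomial.homogeneousSubmodule _ _ _).smul_mem r ha.1, fun h => ?_⟩
    rw [map_smul, ha.2 (ev_mem z (isHomogeneous_mem ha.1))]
    exact congrArg Submodule.Quotient.mk (Subtype.ext ((ev A z).toLinearMap.map_smul r _).symm)

section Fintype

variable [Fintype σ] [DecidableEq σ]

/-- The translation `X ↦ X + z` of polynomials. -/
noncomputable def shift : MvPolynomial σ B →ₐ[B] MvPolynomial σ B :=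
  MvPolynomial.aeval fun i => MvPolynomial.X i + MvPolynomial.C (z i)

theorem shift_surjective : Function.Surjective (shift z) := fun f =>
  ⟨MvPolynomial.aeval (fun i => MvPolynomial.X i - MvPolynomial.C (z i)) f, AlgHom.congr_fun
    (show (shift z).comp (MvPolynomial.aeval fun i => MvPolynomial.X i - MvPolynomial.C (z i)) =
      AlgHom.id B _ from MvPolynomial.algHom_ext fun i => by simp [shift]) f⟩

theorem ev_shift_monomial (q : σ → ℕ) :
    ev A z (shift z (∏ i, MvPolynomial.X i ^ q i)) = (1 : B) ⊗ₜ[A] (∏ i, z i ^ q i) := by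
  simp only [map_prod, map_pow, shift, MvPolynomial.aeval_X, map_add, ev, MvPolynomial.aeval_C, zeta,
    Algebra.TensorProduct.algebraMap_apply, Algebra.algebraMap_self_apply, sub_add_cancel]
  simp only [← Algebra.TensorProduct.includeRight_apply, ← map_pow, ← map_prod]

theorem coeff_shift_monomial (p q : σ → ℕ) :
    (shift z (∏ i, MvPolynomial.X i ^ q i)).coeff (Finsupp.equivFunOnFinite.symm p) =
      ((∏ i, Nat.choose (q i) (p i) : ℕ) : B) * ∏ i, z i ^ (q i - p i) := by
  classical
  simp only [map_prod, map_pow, shift, MvPolynomial.aeval_X, add_pow]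
  rw [Finset.prod_univ_sum, MvPolynomial.coeff_sum]
  have hm : ∀ j : σ → ℕ, (∏ i, MvPolynomial.X i ^ j i * MvPolynomial.C (z i) ^ (q i - j i) *
      ((q i).choose (j i) : MvPolynomial σ B)) = MvPolynomial.monomial (Finsupp.equivFunOnFinite.symm j)
        (((∏ i, Nat.choose (q i) (j i) : ℕ) : B) * ∏ i, z i ^ (q i - j i)) := by
    intro j
    rw [MvPolynomial.monomial_eq, Finsupp.prod_fintype _ _ fun i => by simp, Finset.prod_mul_distrib,
      Finset.prod_mul_distrib, map_mul, map_natCast, map_prod, Nat.cast_prod]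
    simp only [map_pow, Finsupp.equivFunOnFinite_symm_apply_apply]
    ring
  simp only [hm, MvPolynomial.coeff_monomial, Finsupp.equivFunOnFinite.symm.injective.eq_iff,
    Finset.sum_ite_eq']
  split_ifs with h
  · rfl
  · simp only [Fintype.mem_piFinset, Finset.mem_range, not_forall, not_lt] at h
    obtain ⟨i, hi⟩ := h
    rw [Finset.prod_eq_zero (Finset.mem_univ i) (Nat.choose_eq_zero_of_lt (by omega)), Nat.cast_zero,
      zero_mul]

theorem ext_shift {M : Type*} [AddCommGroup M] [Module B M] {φ ψ : MvPolynomial σ B →ₗ[B] M}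
    (h : ∀ q : σ → ℕ, φ (shift z (∏ i, MvPolynomial.X i ^ q i)) =
      ψ (shift z (∏ i, MvPolynomial.X i ^ q i))) : φ = ψ := by
  refine LinearMap.ext fun f => ?_
  obtain ⟨g, rfl⟩ := shift_surjective z f
  induction g using MvPolynomial.induction_on' with
  | add a b ha hb => simp only [map_add, ha, hb]
  | monomial d c =>
    have e : MvPolynomial.monomial d c = c • ∏ i, MvPolynomial.X i ^ d i := by
      rw [MvPolynomial.monomial_eq, Finsupp.prod_fintype _ _ fun i => by simp, MvPolynomial.smul_eq_C_mul]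
    rw [e, map_smul, map_smul, map_smul, h]

/-- `linearize` as a `B`-linear map. -/
noncomputable def linB (D : B →ₗ[A] B) : B ⊗[A] B →ₗ[B] B where
  toFun := Diff16.linearize A B B B D
  map_add' := map_add _
  map_smul' b x := by
    induction x using TensorProduct.induction_on with
    | zero => simp
    | tmul c m =>
      rw [TensorProduct.smul_tmul', RingHom.id_apply, H06DiffOp.linearize_tmul, H06DiffOp.linearize_tmul,
        smul_assoc]
    | add x y hx hy => simp only [RingHom.id_apply, smul_add, map_add] at hx hy ⊢; rw [hx, hy]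

variable {z} in
theorem linB_ev_eq_coeff {D : B →ₗ[A] B} {p : σ → ℕ}
    (hD : ∀ q : σ → ℕ, D (∏ i, z i ^ q i) =
      ((∏ i, Nat.choose (q i) (p i) : ℕ) : B) * ∏ i, z i ^ (q i - p i)) (f : MvPolynomial σ B) :
    linB D (ev A z f) = f.coeff (Finsupp.equivFunOnFinite.symm p) :=
  LinearMap.congr_fun (ext_shift z (φ := linB D ∘ₗ (ev A z).toLinearMap)
    (ψ := MvPolynomial.lcoeff B _) fun q => by
      show Diff16.linearize A B B B D (ev A z (shift z _)) = MvPolynomial.coeff _ _
      rw [ev_shift_monomial, H06DiffOp.linearize_tmul, one_smul, hD, coeff_shift_monomial]) f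

variable {z} in
theorem diffOp_order (hz : Submodule.span B (Set.range fun i => KaehlerDifferential.D A B (z i)) = ⊤)
    {D : B →ₗ[A] B} {p : σ → ℕ} (hk : ∃ k, Diff16.IsDiffOpLE A B B B k D)
    (hD : ∀ q : σ → ℕ, D (∏ i, z i ^ q i) =
      ((∏ i, Nat.choose (q i) (p i) : ℕ) : B) * ∏ i, z i ^ (q i - p i)) :
    Diff16.IsDiffOpLE A B B B (∑ i, p i) D := by
  obtain ⟨k, hk⟩ := hk
  rw [H06DiffOp.diffOp_iff_linearize_vanish] at hk ⊢
  intro x hx
  obtain ⟨f, hf, hfx⟩ := exists_reduce z hz (k + 1) hx
  have h1 : linB D (x - ev A z f) = 0 := hk _ (Ideal.pow_le_pow_right (by omega) hfx)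
  rw [map_sub, linB_ev_eq_coeff hD, sub_eq_zero] at h1
  refine h1.trans ((MvPolynomial.mem_pow_idealOfVars_iff' _ f).mp hf _ ?_)
  rw [Finsupp.degree_eq_sum]
  simp

variable {z} in
theorem qr_of_dual (hz : Submodule.span B (Set.range fun i => KaehlerDifferential.D A B (z i)) = ⊤)
    (Dp : (σ → ℕ) → (B →ₗ[A] B)) (hord : ∀ p, ∃ k, Diff16.IsDiffOpLE A B B B k (Dp p))
    (hD : ∀ p q : σ → ℕ, Dp p (∏ i, z i ^ q i) =
      ((∏ i, Nat.choose (q i) (p i) : ℕ) : B) * ∏ i, z i ^ (q i - p i)) : QR A z := by
  intro k f hf he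
  ext d
  rw [MvPolynomial.coeff_zero]
  by_contra hd
  refine hd ?_
  have hdeg : ∑ i, d i = k := by
    rw [hf.degree_eq_sum_deg_support (MvPolynomial.mem_support_iff.mpr hd)]
    exact (Finset.sum_subset (Finset.subset_univ _) fun i _ hi => Finsupp.notMem_support_iff.mp hi).symm
  have hv := (H06DiffOp.diffOp_iff_linearize_vanish _ _).mp (diffOp_order hz (hord d) (hD d))
    (ev A z f) (hdeg ▸ he)
  rw [← Finsupp.equivFunOnFinite_symm_coe d, ← linB_ev_eq_coeff (hD d)]
  exact hv

variable {z} in
theorem basis_of_qr (hz : Submodule.span B (Set.range fun i => KaehlerDifferential.D A B (z i)) = ⊤)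
    (hqr : QR A z) :
    ∃ b : Module.Basis σ B (KaehlerDifferential A B), ∀ i, b i = KaehlerDifferential.D A B (z i) := by
  have hli : LinearIndependent B fun i => KaehlerDifferential.D A B (z i) := by
    rw [Fintype.linearIndependent_iff]
    intro c hc j
    let f : MvPolynomial σ B := ∑ i, c i • MvPolynomial.X i
    have hf : f = 0 := by
      refine hqr 1 f (MvPolynomial.IsHomogeneous.sum _ _ _ fun i _ =>
        (MvPolynomial.homogeneousSubmodule _ _ _).smul_mem _ (MvPolynomial.isHomogeneous_X _ _)) ?_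
      have hm : ev A z f ∈ I := by
        simpa using ev_mem (A := A) z (k := 1) (f := f) (by
          rw [pow_one]
          exact Ideal.sum_mem _ fun i _ => Submodule.smul_of_tower_mem _ _ (Ideal.subset_span ⟨i, rfl⟩))
      refine ((I).toCotangent_eq_zero ⟨_, hm⟩).mp ?_
      refine Eq.trans ?_ hc
      have : (⟨ev A z f, hm⟩ : I) = ∑ i, algebraMap B (B ⊗[A] B) (c i) • ⟨zeta A B (z i), zeta_mem A B _⟩ := by
        refine Subtype.ext ?_
        rw [Submodule.coe_sum]
        simp [f, ev, Algebra.smul_def]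
      rw [this, map_sum]
      simp only [map_smul]
      exact Finset.sum_congr rfl fun i _ => algebraMap_smul (B ⊗[A] B) (c i) _
    have := congrArg (MvPolynomial.coeff (Finsupp.single j 1)) hf
    simpa [f, MvPolynomial.coeff_sum, MvPolynomial.coeff_X, Finsupp.single_left_inj] using this
  exact ⟨Module.Basis.mk hli hz.ge, fun i => Module.Basis.mk_apply hli hz.ge i⟩

variable {z} in
/-- The monomial basis of the principal parts. -/
theorem exists_basis_pp (hz : Submodule.span B (Set.range fun i => KaehlerDifferential.D A B (z i)) = ⊤)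
    (hqr : QR A z) (m : ℕ) :
    ∃ b : Module.Basis {p : σ → ℕ // ∑ i, p i ≤ m} B (PP16.P m A B),
      ∀ p, b p = Ideal.Quotient.mk _ (ev A z (MvPolynomial.monomial (Finsupp.equivFunOnFinite.symm p.1) 1)) := by
  classical
  let v : {p : σ → ℕ // ∑ i, p i ≤ m} → PP16.P m A B := fun p =>
    Ideal.Quotient.mk _ (ev A z (MvPolynomial.monomial (Finsupp.equivFunOnFinite.symm p.1) 1))
  let θ : MvPolynomial σ B →ₗ[B] PP16.P m A B :=
    ((Ideal.Quotient.mkₐ B _).comp (ev A z)).toLinearMap
  have hli : LinearIndependent B v := by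
    rw [linearIndependent_iff]
    intro l hl
    let f : MvPolynomial σ B :=
      l.sum fun p c => MvPolynomial.monomial (Finsupp.equivFunOnFinite.symm p.1) c
    have hθf : θ f = 0 := by
      rw [← hl, Finsupp.linearCombination_apply, map_finsuppSum]
      refine Finsupp.sum_congr fun p _ => ?_
      rw [← mul_one (l p), ← smul_eq_mul, ← MvPolynomial.smul_monomial, map_smul, smul_eq_mul, mul_one]
      rfl
    have hf : f ∈ J ^ (m + 1) := mem_of_ev_mem z hqr (Ideal.Quotient.eq_zero_iff_mem.mp hθf)
    ext p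
    rw [Finsupp.zero_apply]
    have hp := (MvPolynomial.mem_pow_idealOfVars_iff' _ f).mp hf (Finsupp.equivFunOnFinite.symm p.1)
      (by rw [Finsupp.degree_eq_sum]; simpa using Nat.lt_succ_of_le p.2)
    simp only [f, Finsupp.sum, MvPolynomial.coeff_sum, MvPolynomial.coeff_monomial,
      Finsupp.equivFunOnFinite.symm.injective.eq_iff, Subtype.coe_inj, Finset.sum_ite_eq',
      Finsupp.mem_support_iff, ne_eq, ite_not] at hp
    split_ifs at hp with h
    · exact h
    · exact hp
  have hsp : ⊤ ≤ Submodule.span B (Set.range v) := by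
    intro x _
    obtain ⟨x, rfl⟩ := Ideal.Quotient.mk_surjective x
    obtain ⟨f, -, hfx⟩ := exists_reduce z hz (m + 1) (k := 0) (x := x) (by simp)
    rw [zero_add] at hfx
    rw [(Ideal.Quotient.mk_eq_mk_iff_sub_mem x (ev A z f)).mpr hfx]
    show θ f ∈ _
    clear hfx
    induction f using MvPolynomial.induction_on' with
    | add a b ha hb => rw [map_add]; exact add_mem ha hb
    | monomial d c =>
      rw [← mul_one c, ← smul_eq_mul, ← MvPolynomial.smul_monomial, map_smul]
      refine Submodule.smul_mem _ _ ?_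
      by_cases hd : ∑ i, d i ≤ m
      · refine Submodule.subset_span ⟨⟨d, hd⟩, ?_⟩
        show Ideal.Quotient.mk _ (ev A z (MvPolynomial.monomial (Finsupp.equivFunOnFinite.symm ⇑d) 1)) = θ _
        rw [Finsupp.equivFunOnFinite_symm_coe]
        rfl
      · rw [show θ (MvPolynomial.monomial d 1) = 0 from Ideal.Quotient.eq_zero_iff_mem.mpr
          (Ideal.pow_le_pow_right (by omega) (ev_mem z (isHomogeneous_mem
            (MvPolynomial.isHomogeneous_monomial _ (Finsupp.degree_eq_sum d)))))]
        exact zero_mem _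
  exact ⟨Module.Basis.mk hli hsp, fun p => Module.Basis.mk_apply hli hsp p⟩

end Fintype

end Groth.Agent.H06PP.Monomials
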