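import Groth.Agent.H06PP.Basic
import Mathlib.RingTheory.IsTensorProduct
import Mathlib.RingTheory.Localization.BaseChange

/-! Base change of principal parts. -/

set_option autoImplicit false
set_option linter.style.haveILetI false

open scoped TensorProduct

namespace Groth.Agent.H06PP

universe u

variable {n : ℕ} {A B A' B' : Type u} [CommRing A] [CommRing B] [Algebra A B]
  [CommRing A'] [CommRing B'] [Algebra A' B'] [Algebra A A'] [Algebra B B'] [Algebra A B']
  [IsScalarTower A A' B'] [IsScalarTower A B B']

attribute [local instance] PP16.mapAlgebra PP16.isScalarTower_mapAlgebra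

theorem pushout_core {B B' P P' Q : Type u} [CommRing B] [CommRing B'] [CommRing P] [CommRing P']
    [CommRing Q] [Algebra B B'] [Algebra B P] [Algebra B Q] [Algebra B' Q] [IsScalarTower B B' Q]
    [Algebra P Q] [IsScalarTower B P Q] [Algebra.IsPushout B B' P Q] [Algebra B P'] [Algebra B' P']
    [IsScalarTower B B' P'] [Algebra P P'] [IsScalarTower B P P'] (φ : P' →ₐ[B'] Q)
    (hφ : ∀ x, φ (algebraMap P P' x) = algebraMap P Q x)
    (hcancel : ∀ θ : Q →ₐ[B'] P', (∀ x, θ (algebraMap P Q x) = algebraMap P P' x) →
      θ.comp φ = AlgHom.id B' P') : Algebra.IsPushout B P B' P' := by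
  obtain ⟨θ₀, hl, hr⟩ : ∃ θ₀ : Q →ₐ[B] P', (∀ b', θ₀ (algebraMap B' Q b') = algebraMap B' P' b') ∧
      ∀ x, θ₀ (algebraMap P Q x) = algebraMap P P' x :=
    ⟨Algebra.pushoutDesc (R := B) (S := B') (R' := P) Q (IsScalarTower.toAlgHom B B' P')
      (IsScalarTower.toAlgHom B P P') fun _ _ => Commute.all _ _,
      fun b' => Algebra.pushoutDesc_left (R := B) (S := B') (R' := P) Q (IsScalarTower.toAlgHom B B' P')
        (IsScalarTower.toAlgHom B P P') _ b',
      fun x => Algebra.pushoutDesc_right (R := B) (S := B') (R' := P) Q (IsScalarTower.toAlgHom B B' P')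
        (IsScalarTower.toAlgHom B P P') _ x⟩
  let θ : Q →ₐ[B'] P' := { θ₀ with commutes' := hl }
  have hθ : ∀ x, θ (algebraMap P Q x) = algebraMap P P' x := hr
  have h2 : φ.comp θ = AlgHom.id B' Q := by
    refine AlgHom.restrictScalars_injective B ?_
    refine Algebra.IsPushout.algHom_ext (R := B) (S := B') (R' := P) (S' := Q) ?_ ?_
    · exact AlgHom.ext fun x => (congrArg φ (hθ x)).trans (hφ x)
    · exact AlgHom.ext fun b' => (congrArg φ (hl b')).trans (φ.commutes b')
  exact (Algebra.IsPushout.of_equiv (AlgEquiv.ofAlgHom θ φ (hcancel θ hθ) h2)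
    (RingHom.ext hθ)).symm

section Abstract

variable {Q : Type u} [CommRing Q] [Algebra B Q] [Algebra B' Q] [IsScalarTower B B' Q]
  [Algebra (PP16.P n A B) Q] [IsScalarTower B (PP16.P n A B) Q]
  [Algebra A' Q] [IsScalarTower A' B' Q] [Algebra.IsPushout B B' (PP16.P n A B) Q]

/-- General form: the second map is only known to be congruent to the structure map modulo the
image of the augmentation ideal, and maps out of `B'` are determined modulo nilpotents. -/
theorem isPushout_of_second' (δ : B' →ₐ[A'] Q)
    (hδ : ∀ b, δ (algebraMap B B' b) = algebraMap (PP16.P n A B) Q (PP16.dn n A B b))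
    (hmem : ∀ b', δ b' - algebraMap B' Q b' ∈ (PP16.augIdeal n A B).map (algebraMap (PP16.P n A B) Q))
    (huniq : ∀ (T : Type u) [CommRing T] [Algebra A' T] (K : Ideal T), IsNilpotent K →
      ∀ f g : B' →ₐ[A'] T, (∀ b, f (algebraMap B B' b) = g (algebraMap B B' b)) →
        (∀ x, f x - g x ∈ K) → f = g) :
    Algebra.IsPushout B (PP16.P n A B) B' (PP16.P n A' B') := by
  classical
  let i : PP16.P n A B →+* Q := algebraMap _ Q
  let N : Ideal Q := (PP16.augIdeal n A B).map i
  have hN : N ^ (n + 1) = ⊥ := map_augIdeal_pow i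
  have hib : ∀ b, i (algebraMap B (PP16.P n A B) b) = algebraMap B' Q (algebraMap B B' b) := fun b =>
    (IsScalarTower.algebraMap_apply B (PP16.P n A B) Q b).symm.trans
      (IsScalarTower.algebraMap_apply B B' Q b)
  have hm : ∀ x, desc δ N hN hmem (PP16.map n A B A' B' x) = i x := by
    have := ringHom_ext (n := n) (A := A) (B := B) (g := i)
      (f := (desc δ N hN hmem).toRingHom.comp (PP16.map n A B A' B').toRingHom)
      (fun b => by
        show desc δ N hN hmem (PP16.map n A B A' B' (algebraMap B _ b)) = _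
        rw [PP16.map_algebraMap, AlgHom.commutes, hib])
      (fun b => by
        show desc δ N hN hmem (PP16.map n A B A' B' (PP16.dn n A B b)) = _
        rw [PP16.map_dn, desc_dn, hδ])
    exact fun x => RingHom.congr_fun this x
  refine pushout_core (B := B) (B' := B') (P := PP16.P n A B) (P' := PP16.P n A' B') (Q := Q)
    (desc δ N hN hmem) hm ?_
  intro θ hθ
  have hθN : N.map θ.toRingHom ≤ PP16.augIdeal n A' B' := by
    rw [Ideal.map_map]
    refine le_trans (le_of_eq ?_) (map_augIdeal_le n A B A' B')
    exact congrArg (fun f => Ideal.map f (PP16.augIdeal n A B))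
      (show θ.toRingHom.comp i = (PP16.map n A B A' B').toRingHom from RingHom.ext hθ)
  have h1 : ∀ b', θ (δ b') = PP16.dn n A' B' b' := fun b' => AlgHom.congr_fun
    (huniq _ (PP16.augIdeal n A' B') ⟨n + 1, augIdeal_pow n A' B'⟩
      ((θ.restrictScalars A').comp δ) (PP16.dn n A' B')
      (fun b => ((congrArg θ (hδ b)).trans (hθ _)).trans (PP16.map_dn n A B A' B' b))
      fun x => by
        show θ (δ x) - PP16.dn n A' B' x ∈ _
        rw [show θ (δ x) - PP16.dn n A' B' x = θ (δ x - algebraMap B' Q x) -
          (PP16.dn n A' B' x - algebraMap B' _ x) by rw [map_sub, AlgHom.commutes]; ring]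
        exact sub_mem (hθN (Ideal.mem_map_of_mem θ.toRingHom (hmem x))) (dn_sub_mem n A' B' x)) b'
  apply AlgHom.coe_ringHom_injective
  refine ringHom_ext (fun b => ?_) (fun b => ?_)
  · show θ (desc δ N hN hmem (algebraMap B' _ b)) = algebraMap B' _ b
    rw [AlgHom.commutes, AlgHom.commutes]
  · show θ (desc δ N hN hmem (PP16.dn n A' B' b)) = PP16.dn n A' B' b
    rw [desc_dn, h1]

/-- Recognition of `P^n` of a square as a pushout of `P^n`, from a second algebra map into the
candidate pushout. -/
theorem isPushout_of_second (δ : B' →ₐ[A'] Q)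
    (hδ : ∀ b, δ (algebraMap B B' b) = algebraMap (PP16.P n A B) Q (PP16.dn n A B b))
    (hext : ∀ (T : Type u) [CommRing T] [Algebra A' T] (f g : B' →ₐ[A'] T),
      (∀ b, f (algebraMap B B' b) = g (algebraMap B B' b)) → f = g) :
    Algebra.IsPushout B (PP16.P n A B) B' (PP16.P n A' B') := by
  refine isPushout_of_second' δ hδ (fun b' => ?_) fun T _ _ _ _ f g h _ => hext T f g h
  rw [← Ideal.Quotient.mk_eq_mk_iff_sub_mem]
  refine AlgHom.congr_fun (hext _ ((Ideal.Quotient.mkₐ A' _).comp δ)
    ((Ideal.Quotient.mkₐ A' _).comp (IsScalarTower.toAlgHom A' B' Q)) fun b => ?_) b'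
  refine (Ideal.Quotient.mk_eq_mk_iff_sub_mem _ _).mpr ?_
  show δ (algebraMap B B' b) - algebraMap B' Q (algebraMap B B' b) ∈ _
  rw [hδ, ← IsScalarTower.algebraMap_apply B B' Q, IsScalarTower.algebraMap_apply B (PP16.P n A B) Q]
  exact map_dn_sub_mem _ b

end Abstract

theorem isPushout_of_isPushout {Q : Type u} [CommRing Q] [Algebra B Q] [Algebra B' Q]
    [IsScalarTower B B' Q] [Algebra (PP16.P n A B) Q] [IsScalarTower B (PP16.P n A B) Q]
    [Algebra.IsPushout B B' (PP16.P n A B) Q] [Algebra.IsPushout A B A' B'] :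
    Algebra.IsPushout B (PP16.P n A B) B' (PP16.P n A' B') := by
  letI : Algebra A' Q := ((algebraMap B' Q).comp (algebraMap A' B')).toAlgebra
  haveI : IsScalarTower A' B' Q := .of_algebraMap_eq fun _ => rfl
  letI : Algebra A Q := ((algebraMap A' Q).comp (algebraMap A A')).toAlgebra
  haveI : IsScalarTower A A' Q := .of_algebraMap_eq fun _ => rfl
  let f : B →ₐ[A] Q :=
    { (algebraMap (PP16.P n A B) Q).comp (PP16.dn n A B).toRingHom with
      commutes' := fun a => by
        show algebraMap (PP16.P n A B) Q (PP16.dn n A B (algebraMap A B a)) =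
          algebraMap B' Q (algebraMap A' B' (algebraMap A A' a))
        rw [AlgHom.commutes, IsScalarTower.algebraMap_apply A B (PP16.P n A B),
          ← IsScalarTower.algebraMap_apply B (PP16.P n A B) Q, IsScalarTower.algebraMap_apply B B' Q,
          ← IsScalarTower.algebraMap_apply A B B', IsScalarTower.algebraMap_apply A A' B'] }
  let g : A' →ₐ[A] Q := IsScalarTower.toAlgHom A A' Q
  let δ : B' →ₐ[A'] Q :=
    { Algebra.pushoutDesc B' f g fun _ _ => Commute.all _ _ with
      commutes' := fun a' => Algebra.pushoutDesc_right B' f g _ a' }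
  refine isPushout_of_second δ (fun b => Algebra.pushoutDesc_left B' f g _ b) ?_
  intro T _ _ f g h
  letI : Algebra A T := ((algebraMap A' T).comp (algebraMap A A')).toAlgebra
  haveI : IsScalarTower A A' T := .of_algebraMap_eq fun _ => rfl
  refine AlgHom.restrictScalars_injective A ?_
  refine Algebra.IsPushout.algHom_ext (R := A) (S := B) (R' := A') (S' := B') ?_ ?_
  · exact AlgHom.ext fun a => (f.commutes a).trans (g.commutes a).symm
  · exact AlgHom.ext h

theorem isLocalization_map {n : ℕ} {A B B' Q : Type u} [CommRing A] [CommRing B] [Algebra A B]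
    [CommRing B'] [Algebra B B'] [Algebra A B'] [IsScalarTower A B B'] (S : Submonoid B)
    [IsLocalization S B'] [CommRing Q] [Algebra B Q] [Algebra B' Q]
    [IsScalarTower B B' Q] [Algebra (PP16.P n A B) Q] [IsScalarTower B (PP16.P n A B) Q]
    [Algebra.IsPushout B B' (PP16.P n A B) Q] :
    Algebra.IsPushout B (PP16.P n A B) B' (PP16.P n A B') := by
  letI : Algebra A Q := ((algebraMap B' Q).comp (algebraMap A B')).toAlgebra
  haveI : IsScalarTower A B' Q := .of_algebraMap_eq fun _ => rfl
  let f : B →+* Q := (algebraMap (PP16.P n A B) Q).comp (PP16.dn n A B).toRingHom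
  have hf : ∀ s : S, IsUnit (f s) := by
    intro s
    have hu : IsUnit (algebraMap B Q s) := by
      rw [IsScalarTower.algebraMap_apply B B' Q]
      exact (IsLocalization.map_units B' s).map _
    have hn : IsNilpotent (f s - algebraMap B Q s) := by
      rw [IsScalarTower.algebraMap_apply B (PP16.P n A B) Q]
      refine ⟨n + 1, Ideal.mem_bot.mp ?_⟩
      rw [← map_augIdeal_pow (n := n) (A := A) (B := B) (algebraMap (PP16.P n A B) Q)]
      exact Ideal.pow_mem_pow (map_dn_sub_mem _ _) _
    simpa using hn.isUnit_add_left_of_commute hu (Commute.all _ _)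
  let δ : B' →ₐ[A] Q :=
    { IsLocalization.lift hf with
      commutes' := fun a => by
        show IsLocalization.lift hf (algebraMap A B' a) = algebraMap B' Q (algebraMap A B' a)
        rw [IsScalarTower.algebraMap_apply A B B', IsLocalization.lift_eq,
          ← IsScalarTower.algebraMap_apply B B' Q]
        show algebraMap _ Q (PP16.dn n A B (algebraMap A B a)) = _
        rw [AlgHom.commutes, IsScalarTower.algebraMap_apply A B (PP16.P n A B),
          ← IsScalarTower.algebraMap_apply B (PP16.P n A B) Q] }
  refine isPushout_of_second δ (fun b => IsLocalization.lift_eq hf b) ?_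
  intro T _ _ f g h
  exact AlgHom.coe_ringHom_injective (IsLocalization.ringHom_ext S (RingHom.ext h))

/-- Principal parts do not see a localization of the base. -/
theorem map_bijective_of_isLocalization (n : ℕ) {A A' B' : Type u} [CommRing A] [CommRing A']
    [CommRing B'] [Algebra A A'] [Algebra A' B'] [Algebra A B'] [IsScalarTower A A' B']
    [IsScalarTower A A' (PP16.P n A B')] (R : Submonoid A) [IsLocalization R A'] :
    Function.Bijective (PP16.map n A B' A' B') := by
  let δ : B' →ₐ[A'] PP16.P n A B' :=
    { (PP16.dn n A B').toRingHom with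
      commutes' := fun a' => AlgHom.congr_fun
        (IsLocalization.algHom_ext R (A := A) (Algebra.ext_id _ _ _) :
          (PP16.dn n A B').comp (IsScalarTower.toAlgHom A A' B') = IsScalarTower.toAlgHom A A' _) a' }
  let φ := desc (n := n) δ (PP16.augIdeal n A B') (augIdeal_pow n A B') (dn_sub_mem n A B')
  refine Function.bijective_iff_has_inverse.mpr ⟨φ, ?_, ?_⟩
  · have : φ.toRingHom.comp (PP16.map n A B' A' B').toRingHom = RingHom.id _ := by
      refine ringHom_ext (fun b => ?_) (fun b => ?_)
      · show φ (PP16.map n A B' A' B' (algebraMap B' _ b)) = algebraMap B' _ b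
        rw [PP16.map_algebraMap, AlgHom.commutes, Algebra.algebraMap_self_apply]
      · show φ (PP16.map n A B' A' B' (PP16.dn n A B' b)) = PP16.dn n A B' b
        rw [PP16.map_dn, desc_dn]
        rfl
    exact fun x => RingHom.congr_fun this x
  · have : (PP16.map n A B' A' B').toRingHom.comp φ.toRingHom = RingHom.id _ := by
      refine ringHom_ext (fun b => ?_) (fun b => ?_)
      · show PP16.map n A B' A' B' (φ (algebraMap B' _ b)) = algebraMap B' _ b
        rw [AlgHom.commutes, PP16.map_algebraMap, Algebra.algebraMap_self_apply]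
      · show PP16.map n A B' A' B' (φ (PP16.dn n A' B' b)) = PP16.dn n A' B' b
        rw [desc_dn]
        exact PP16.map_dn n A B' A' B' b
    exact fun x => RingHom.congr_fun this x

end Groth.Agent.H06PP
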