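import Groth.Agent.H06PP.BaseChange
import Groth.Agent.H06DiffOp.Basic
import Mathlib.RingTheory.Etale.Basic

/-! Principal parts and differential operators along formally étale maps. -/

set_option autoImplicit false

open scoped TensorProduct

namespace Groth.Agent.H06PP

universe u

variable {n : ℕ} {R S S' : Type u} [CommRing R] [CommRing S] [CommRing S'] [Algebra R S] [Algebra R S']
  [Algebra S S'] [IsScalarTower R S S'] [Algebra.FormallyEtale S S']

attribute [local instance] PP16.mapAlgebra PP16.isScalarTower_mapAlgebra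

/-- Principal parts commute with formally étale base change. -/
theorem isPushout_of_formallyEtale {Q : Type u} [CommRing Q] [Algebra S Q] [Algebra S' Q]
    [IsScalarTower S S' Q] [Algebra (PP16.P n R S) Q] [IsScalarTower S (PP16.P n R S) Q]
    [Algebra.IsPushout S S' (PP16.P n R S) Q] :
    Algebra.IsPushout S (PP16.P n R S) S' (PP16.P n R S') := by
  let N : Ideal Q := (PP16.augIdeal n R S).map (algebraMap (PP16.P n R S) Q)
  have hN : IsNilpotent N := ⟨n + 1, map_augIdeal_pow _⟩
  let _ : Algebra R Q := ((algebraMap S' Q).comp (algebraMap R S')).toAlgebra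
  have : IsScalarTower R S' Q := .of_algebraMap_eq fun _ => rfl
  -- lift the second structure map
  let d : S →+* Q := (algebraMap (PP16.P n R S) Q).comp (PP16.dn n R S).toRingHom
  have hd : ∀ s, d s - algebraMap S Q s ∈ N := fun s => by
    rw [IsScalarTower.algebraMap_apply S (PP16.P n R S) Q]
    exact map_dn_sub_mem _ s
  obtain ⟨δ, hδ, hδN⟩ : ∃ δ : S' →+* Q, (∀ s, δ (algebraMap S S' s) = d s) ∧
      ∀ x, δ x - algebraMap S' Q x ∈ N := by
    let g : S' →+* Q ⧸ N := (Ideal.Quotient.mk N).comp (algebraMap S' Q)
    have hg : ∀ s, g (algebraMap S S' s) = Ideal.Quotient.mk N (d s) := fun s => by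
      refine ((Ideal.Quotient.mk_eq_mk_iff_sub_mem _ _).mpr ?_).symm
      rw [← IsScalarTower.algebraMap_apply S S' Q]
      exact hd s
    revert hd hg
    generalize d = d
    intro hd hg
    letI : Algebra S Q := d.toAlgebra
    let g' : S' →ₐ[S] Q ⧸ N := { g with commutes' := hg }
    refine ⟨(Algebra.FormallySmooth.lift N hN g').toRingHom,
      fun s => (Algebra.FormallySmooth.lift N hN g').commutes s, fun x => ?_⟩
    exact (Ideal.Quotient.mk_eq_mk_iff_sub_mem _ _).mp (Algebra.FormallySmooth.mk_lift N hN g' x)
  let δ' : S' →ₐ[R] Q :=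
    { δ with
      commutes' := fun r => by
        show δ (algebraMap R S' r) = algebraMap S' Q (algebraMap R S' r)
        rw [IsScalarTower.algebraMap_apply R S S', hδ, ← IsScalarTower.algebraMap_apply S S' Q]
        show algebraMap (PP16.P n R S) Q (PP16.dn n R S (algebraMap R S r)) = _
        rw [AlgHom.commutes, IsScalarTower.algebraMap_apply R S (PP16.P n R S),
          ← IsScalarTower.algebraMap_apply S (PP16.P n R S) Q] }
  refine isPushout_of_second' δ' hδ hδN ?_
  intro T _ _ K hK f g hfg hmem
  let _ : Algebra S T := (f.toRingHom.comp (algebraMap S S')).toAlgebra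
  let f' : S' →ₐ[S] T := { f.toRingHom with commutes' := fun _ => rfl }
  let g' : S' →ₐ[S] T := { g.toRingHom with commutes' := fun s => (hfg s).symm }
  have : f' = g' := Algebra.FormallyUnramified.lift_unique K hK f' g'
    (AlgHom.ext fun x => (Ideal.Quotient.mk_eq_mk_iff_sub_mem _ _).mpr (hmem x))
  exact AlgHom.ext fun x => AlgHom.congr_fun this x

end Groth.Agent.H06PP
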