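import Groth.Agent.S3815
import Groth.Agent.H06PP.Etale
import Mathlib.RingTheory.IsTensorProduct

/-! Extending differential operators along formally étale maps. -/

set_option autoImplicit false

open scoped TensorProduct

namespace Groth.Agent.H06PP

universe u

open S3815

attribute [local instance] PP16.mapAlgebra PP16.isScalarTower_mapAlgebra

variable {R S S' : Type u} [CommRing R] [CommRing S] [CommRing S'] [Algebra R S] [Algebra R S']
  [Algebra S S'] [IsScalarTower R S S'] [Algebra.FormallyEtale S S']

theorem isPushout_etale (n : ℕ) : Algebra.IsPushout S S' (PP16.P n R S) (PP16.P n R S') := by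
  letI : Algebra (PP16.P n R S) (S' ⊗[S] PP16.P n R S) := Algebra.TensorProduct.rightAlgebra
  exact (isPushout_of_formallyEtale (Q := S' ⊗[S] PP16.P n R S)).symm

/-- Induction principle for a pushout. -/
theorem pushout_induction {B B' P P' : Type u} [CommRing B] [CommRing B'] [CommRing P] [CommRing P']
    [Algebra B B'] [Algebra B P] [Algebra B P'] [Algebra B' P'] [IsScalarTower B B' P'] [Algebra P P']
    [IsScalarTower B P P'] (h : Algebra.IsPushout B B' P P') (C : P' → Prop) (zero : C 0)
    (add : ∀ a c, C a → C c → C (a + c)) (mul : ∀ c a, C a → C (algebraMap B' P' c * a))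
    (map : ∀ x, C (algebraMap P P' x)) (y : P') : C y := by
  induction y using h.out.inductionOn with
  | zero => exact zero
  | add a c ha hc => exact add a c ha hc
  | smul c a ha => rw [Algebra.smul_def]; exact mul c a ha
  | tmul x => exact map x

section Unique

variable {M M' N' : Type u} [AddCommGroup M] [Module S M]
  [AddCommGroup M'] [Module R M'] [Module S' M'] [IsScalarTower R S' M']
  [AddCommGroup N'] [Module R N'] [Module S' N'] [IsScalarTower R S' N']

/-- A differential operator is determined by its values on elements coming from `M`. -/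
theorem diffOp_eq_zero (ι : M → M') (hι : ∀ (s : S) (m : M), ι (s • m) = algebraMap S S' s • ι m)
    (hgen : Submodule.span S' (Set.range ι) = ⊤) (n : ℕ) (E : M' →ₗ[R] N')
    (hE : Diff16.IsDiffOpLE R S' M' N' n E) (h0 : ∀ m, E (ι m) = 0) : E = 0 := by
  obtain ⟨w, hw, hwE⟩ := exists_hom E hE
  have hP : ∀ (y : PP16.P n R S') (m : M), w (y • PP16.dM n R S' M' (ι m)) = 0 := by
    refine pushout_induction (isPushout_etale (R := R) (S := S) (S' := S') n)
      (fun y => ∀ m, w (y • PP16.dM n R S' M' (ι m)) = 0) ?_ ?_ ?_ ?_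
    · intro m; rw [zero_smul, map_zero]
    · intro a c ha hc m; rw [add_smul, map_add, ha, hc, add_zero]
    · intro c a ha m; rw [mul_smul, hw, ha, smul_zero]
    · intro x m
      obtain ⟨x, rfl⟩ := Ideal.Quotient.mk_surjective x
      show w ((PP16.map n R S R S' _) • _) = 0
      induction x using TensorProduct.induction_on with
      | zero => rw [map_zero, map_zero, zero_smul, map_zero]
      | add a c ha hc => rw [map_add, map_add, add_smul, map_add, ha, hc, add_zero]
      | tmul a b =>
        rw [mk_tmul, map_mul, PP16.map_algebraMap, PP16.map_dn, mul_smul, hw, ← smul_dM, ← hι, hwE, h0,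
          smul_zero]
  ext m'
  rw [LinearMap.zero_apply, ← hwE]
  have hm : m' ∈ Submodule.span S' (Set.range ι) := hgen ▸ Submodule.mem_top
  suffices ∀ y : PP16.P n R S', w (y • PP16.dM n R S' M' m') = 0 by simpa using this 1
  induction hm using Submodule.span_induction with
  | mem z hz => obtain ⟨m, rfl⟩ := hz; exact fun y => hP y m
  | zero => intro y; rw [map_zero, smul_zero, map_zero]
  | add a c _ _ ha hc => intro y; rw [map_add, smul_add, map_add, ha, hc, add_zero]
  | smul c a _ ha => intro y; rw [smul_dM, ← mul_smul]; exact ha _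

/-- Two operators agreeing on elements coming from `M` are equal. -/
theorem diffOp_ext (ι : M → M') (hι : ∀ (s : S) (m : M), ι (s • m) = algebraMap S S' s • ι m)
    (hgen : Submodule.span S' (Set.range ι) = ⊤) (n : ℕ) (E F : M' →ₗ[R] N')
    (hE : Diff16.IsDiffOpLE R S' M' N' n E) (hF : Diff16.IsDiffOpLE R S' M' N' n F)
    (h : ∀ m, E (ι m) = F (ι m)) : E = F :=
  sub_eq_zero.mp (diffOp_eq_zero ι hι hgen n (E - F) (H06DiffOp.diffOp_sub n hE hF) fun m => by
    rw [LinearMap.sub_apply, h, sub_self])

end Unique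

theorem span_range_one_tmul {M : Type u} [AddCommGroup M] [Module S M] :
    Submodule.span S' (Set.range fun m : M => (1 : S') ⊗ₜ[S] m) = ⊤ := by
  rw [eq_top_iff]
  rintro t -
  induction t using TensorProduct.induction_on with
  | zero => exact zero_mem _
  | add a c ha hc => exact add_mem ha hc
  | tmul c m =>
    rw [show c ⊗ₜ[S] m = c • ((1 : S') ⊗ₜ[S] m) by rw [TensorProduct.smul_tmul', smul_eq_mul, mul_one]]
    exact Submodule.smul_mem _ _ (Submodule.subset_span ⟨m, rfl⟩)

section Existence

variable {M N : Type u} [AddCommGroup M] [Module S M] [Module R M] [IsScalarTower R S M]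
  [AddCommGroup N] [Module S N] [Module R N] [IsScalarTower R S N]

/-- A differential operator extends along a formally étale map. -/
theorem exists_extension (k : ℕ) (D : M →ₗ[R] N) (hD : Diff16.IsDiffOpLE R S M N k D) :
    ∃ D' : S' ⊗[S] M →ₗ[R] S' ⊗[S] N,
      Diff16.IsDiffOpLE R S' (S' ⊗[S] M) (S' ⊗[S] N) k D' ∧ ∀ m, D' (1 ⊗ₜ m) = 1 ⊗ₜ D m := by
  obtain ⟨w₀, hw₀, hwD⟩ := exists_hom D hD
  have h := (isPushout_etale (R := R) (S := S) (S' := S') k).out
  let φ : M → (PP16.P k R S →ₗ[S] S' ⊗[S] N) := fun m =>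
    TensorProduct.mk S S' N 1 ∘ₗ
      { toFun := fun x => w₀ (x • PP16.dM k R S M m)
        map_add' := fun x y => by rw [add_smul, map_add]
        map_smul' := fun s x => by rw [Algebra.smul_def, mul_smul, hw₀]; rfl }
  let Φ : M → (PP16.P k R S' →ₗ[S'] S' ⊗[S] N) := fun m => h.lift (φ m)
  have hΦ : ∀ m x, Φ m (PP16.map k R S R S' x) = (1 : S') ⊗ₜ w₀ (x • PP16.dM k R S M m) := fun m x =>
    h.lift_eq (φ m) x
  have hadd : ∀ m m', Φ (m + m') = Φ m + Φ m' := fun m m' => h.algHom_ext _ _ fun x => by
    show Φ (m + m') (PP16.map k R S R S' x) =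
      Φ m (PP16.map k R S R S' x) + Φ m' (PP16.map k R S R S' x)
    rw [hΦ, hΦ, hΦ, map_add, smul_add, map_add, TensorProduct.tmul_add]
  have hbal : ∀ (s : S) (m : M) (y : PP16.P k R S'),
      Φ (s • m) y = Φ m (PP16.dn k R S' (algebraMap S S' s) * y) := by
    intro s m
    refine pushout_induction (isPushout_etale (R := R) (S := S) (S' := S') k)
      (fun y => Φ (s • m) y = Φ m (PP16.dn k R S' (algebraMap S S' s) * y)) ?_ ?_ ?_ ?_
    · rw [mul_zero, map_zero, map_zero]
    · intro a c ha hc; rw [mul_add, map_add, map_add, ha, hc]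
    · intro c a ha; rw [← Algebra.smul_def, mul_smul_comm, map_smul, map_smul, ha]
    · intro x
      show Φ (s • m) (PP16.map k R S R S' x) = Φ m (_ * PP16.map k R S R S' x)
      rw [← PP16.map_dn k R S R S' s, ← map_mul, hΦ, hΦ, smul_dM, ← mul_smul, mul_comm]
  let Ψ : S' →+ M →+ (PP16.P k R S' →+ S' ⊗[S] N) :=
    AddMonoidHom.mk' (fun s' => AddMonoidHom.mk'
        (fun m => (Φ m).toAddMonoidHom.comp (AddMonoidHom.mulLeft (PP16.dn k R S' s')))
        fun m m' => by rw [hadd]; rfl)
      fun s t => by
        refine AddMonoidHom.ext fun m => AddMonoidHom.ext fun y => ?_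
        show Φ m (PP16.dn k R S' (s + t) * y) = Φ m (_ * y) + Φ m (_ * y)
        rw [map_add, add_mul, map_add]
  let W : S' ⊗[S] M →+ (PP16.P k R S' →+ S' ⊗[S] N) :=
    TensorProduct.liftAddHom Ψ fun s s' m => AddMonoidHom.ext fun y => by
      show Φ m (PP16.dn k R S' (s • s') * y) = Φ (s • m) (PP16.dn k R S' s' * y)
      rw [hbal, Algebra.smul_def, map_mul (PP16.dn k R S'), mul_assoc]
  have hW : ∀ s' m y, W (s' ⊗ₜ m) y = Φ m (PP16.dn k R S' s' * y) := fun _ _ _ => rfl
  have hWs : ∀ (c : S') (t : S' ⊗[S] M) (y : PP16.P k R S'),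
      W (c • t) y = W t (PP16.dn k R S' c * y) := by
    intro c t
    induction t using TensorProduct.induction_on with
    | zero => intro y; rw [smul_zero, map_zero]; rfl
    | add a b ha hb => intro y; rw [smul_add, map_add, map_add, AddMonoidHom.add_apply, ha, hb]; rfl
    | tmul s' m =>
      intro y
      rw [TensorProduct.smul_tmul', smul_eq_mul, hW, hW, map_mul (PP16.dn k R S'), mul_assoc, mul_left_comm]
  let U : PP16.Pr k R S' →+ S' ⊗[S] M →+ S' ⊗[S] N :=
    AddMonoidHom.mk' (fun y => AddMonoidHom.mk' (fun t => W t (show PP16.P k R S' from y))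
      fun a b => by rw [map_add]; rfl) fun y z => AddMonoidHom.ext fun t => map_add (W t) _ _
  let w : PP16.PM k R S' (S' ⊗[S] M) →+ S' ⊗[S] N := TensorProduct.liftAddHom U fun c y t => by
    show W t (PP16.dn k R S' c * (show PP16.P k R S' from y)) = W (c • t) (show PP16.P k R S' from y)
    rw [hWs]
  have hw : ∀ (c : S') (t : PP16.PM k R S' (S' ⊗[S] M)),
      w (algebraMap S' (PP16.P k R S') c • t) = c • w t := by
    intro c t
    induction t using TensorProduct.induction_on with
    | zero => rw [smul_zero, map_zero, smul_zero]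
    | add a b ha hb => rw [smul_add, map_add, map_add, ha, hb, smul_add]
    | tmul y t =>
      change PP16.P k R S' at y
      show W t (algebraMap S' (PP16.P k R S') c * y) = c • W t y
      induction t using TensorProduct.induction_on with
      | zero => rw [map_zero]; exact (smul_zero c).symm
      | add a b ha hb => rw [map_add, AddMonoidHom.add_apply, AddMonoidHom.add_apply, ha, hb, smul_add]
      | tmul s' m => rw [hW, hW, mul_left_comm, ← Algebra.smul_def, map_smul]
  have hval : ∀ t, w (PP16.dM k R S' (S' ⊗[S] M) t) = W t 1 := fun t => rfl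
  let D' : S' ⊗[S] M →ₗ[R] S' ⊗[S] N :=
    { toFun := fun t => w (PP16.dM k R S' (S' ⊗[S] M) t)
      map_add' := fun a b => by rw [map_add, map_add]
      map_smul' := fun r t => by
        rw [← algebraMap_smul S' r t, smul_dM, AlgHom.commutes,
          IsScalarTower.algebraMap_apply R S' (PP16.P k R S'), hw, algebraMap_smul]
        rfl }
  refine ⟨D', diffOp_of_hom D' w hw fun t => rfl, fun m => ?_⟩
  show W ((1 : S') ⊗ₜ m) 1 = _
  rw [hW, map_one, mul_one, ← map_one (PP16.map k R S R S'), hΦ, one_smul, hwD]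

end Existence

end Groth.Agent.H06PP
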