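import Mathlib.LinearAlgebra.TensorPower.Symmetric
import Mathlib.LinearAlgebra.PiTensorProduct.Basis
import Mathlib.RingTheory.MvPolynomial.Homogeneous
import Mathlib.RingTheory.TensorProduct.Basic
import Mathlib.Data.Finsupp.Multiset

/-! Symmetric powers: universal property, generators, and injectivity of the map to polynomials. -/

set_option autoImplicit false

open scoped TensorProduct

namespace Groth.Agent.H06PP.SymPow

universe u v w

variable {R ι : Type u} [CommRing R] {M : Type v} [AddCommGroup M] [Module R M]

section lift

variable {N : Type w} [AddCommMonoid N] [Module R N]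

/-- A symmetric multilinear map factors through the symmetric power. -/
noncomputable def lift (f : MultilinearMap R (fun _ : ι => M) N)
    (hf : ∀ (e : Equiv.Perm ι) (x : ι → M), f (fun i => x (e i)) = f x) :
    SymmetricPower R ι M →ₗ[R] N where
  toFun := AddCon.lift _ (PiTensorProduct.lift f).toAddMonoidHom <| AddCon.addConGen_le.mpr <| by
    rintro _ _ ⟨e, x⟩
    refine AddCon.ker_apply.mpr ?_
    rw [LinearMap.toAddMonoidHom_coe, PiTensorProduct.lift.tprod, PiTensorProduct.lift.tprod, hf]
  map_add' := map_add _
  map_smul' r x := AddCon.induction_on x fun x => (PiTensorProduct.lift f).map_smul r x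

@[simp]
theorem lift_tprod (f : MultilinearMap R (fun _ : ι => M) N)
    (hf : ∀ (e : Equiv.Perm ι) (x : ι → M), f (fun i => x (e i)) = f x) (x : ι → M) :
    lift f hf (SymmetricPower.tprod R x) = f x :=
  PiTensorProduct.lift.tprod x

theorem ext {φ ψ : SymmetricPower R ι M →ₗ[R] N}
    (h : ∀ x : ι → M, φ (SymmetricPower.tprod R x) = ψ (SymmetricPower.tprod R x)) : φ = ψ :=
  LinearMap.ext_on_range (SymmetricPower.span_tprod_eq_top R ι M) h

end lift

theorem span_tprod_comp [Finite ι] {σ : Type w} (v : σ → M)
    (hv : Submodule.span R (Set.range v) = ⊤) :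
    Submodule.span R (Set.range fun g : ι → σ => SymmetricPower.tprod R (fun i => v (g i))) = ⊤ := by
  classical
  cases nonempty_fintype ι
  rw [eq_top_iff, ← SymmetricPower.span_tprod_eq_top, Submodule.span_le]
  rintro _ ⟨x, rfl⟩
  suffices ∀ (s : Finset ι) (x : ι → M), (∀ i ∉ s, x i ∈ Set.range v) →
      SymmetricPower.tprod R x ∈ Submodule.span R
        (Set.range fun g : ι → σ => SymmetricPower.tprod R (fun i => v (g i))) from
    this Finset.univ x (by simp)
  intro s
  induction s using Finset.induction_on with
  | empty =>
    intro x hx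
    choose g hg using fun i => hx i (by simp)
    exact Submodule.subset_span ⟨g, congrArg _ (funext hg)⟩
  | insert a s ha ih =>
    intro x hx
    have hxa : x a ∈ Submodule.span R (Set.range v) := hv ▸ Submodule.mem_top
    suffices ∀ y ∈ Submodule.span R (Set.range v),
        SymmetricPower.tprod R (Function.update x a y) ∈ Submodule.span R
          (Set.range fun g : ι → σ => SymmetricPower.tprod R (fun i => v (g i))) by
      simpa using this _ hxa
    intro y hy
    induction hy using Submodule.span_induction with
    | mem y hy =>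
      refine ih _ fun i hi => ?_
      by_cases hia : i = a
      · subst hia; simpa using hy
      · simpa [hia] using hx i (by simp [hia, hi])
    | zero => rw [MultilinearMap.map_update_zero]; exact zero_mem _
    | add y z _ _ hy hz => rw [MultilinearMap.map_update_add]; exact add_mem hy hz
    | smul r y _ hy => rw [MultilinearMap.map_update_smul]; exact Submodule.smul_mem _ r hy

section Poly

variable [Fintype ι] {S : Type w} [CommRing S] [Algebra R S]

/-- Evaluate a symmetric tensor to a product in a commutative algebra. -/
noncomputable def eval (φ : M →ₗ[R] S) : SymmetricPower R ι M →ₗ[R] S :=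
  lift ((MultilinearMap.mkPiAlgebra R ι S).compLinearMap fun _ => φ) fun e x => by
    simp only [MultilinearMap.compLinearMap_apply, MultilinearMap.mkPiAlgebra_apply]
    exact Equiv.prod_comp e fun i => φ (x i)

@[simp]
theorem eval_tprod (φ : M →ₗ[R] S) (x : ι → M) :
    eval φ (SymmetricPower.tprod R x) = ∏ i, φ (x i) := by
  simp [eval]

theorem tprod_eq_of_count_eq {σ : Type w} [DecidableEq σ] (v : σ → M) {g g' : ι → σ}
    (h : ∀ s, (Finset.univ.filter fun i => g i = s).card =
      (Finset.univ.filter fun i => g' i = s).card) :
    SymmetricPower.tprod R (fun i => v (g i)) = SymmetricPower.tprod R (fun i => v (g' i)) := by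
  have hc : ∀ s, Fintype.card {i // g i = s} = Fintype.card {i // g' i = s} := fun s => by
    rw [Fintype.card_subtype, Fintype.card_subtype]
    exact h s
  let e : Equiv.Perm ι := Equiv.ofFiberEquiv fun s => Fintype.equivOfCardEq (hc s)
  have he : ∀ i, g' (e i) = g i := Equiv.ofFiberEquiv_map _
  rw [← SymmetricPower.tprod_equiv e fun i => v (g' i)]
  simp [he]

theorem prod_X_eq_monomial {σ : Type w} (g : ι → σ) :
    (∏ i, MvPolynomial.X (g i) : MvPolynomial σ R) =
      MvPolynomial.monomial (∑ i, Finsupp.single (g i) 1) 1 := by
  classical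
  have : ∀ t : Finset ι, (∏ i ∈ t, MvPolynomial.X (g i) : MvPolynomial σ R) =
      MvPolynomial.monomial (∑ i ∈ t, Finsupp.single (g i) 1) 1 := by
    intro t
    induction t using Finset.induction_on with
    | empty => simp
    | insert a t ha ih =>
      rw [Finset.prod_insert ha, Finset.sum_insert ha, ih, MvPolynomial.X,
        MvPolynomial.monomial_mul, one_mul]
  exact this Finset.univ

theorem sum_single_apply {σ : Type w} [DecidableEq σ] (g : ι → σ) (s : σ) :
    (∑ i, Finsupp.single (g i) 1 : σ →₀ ℕ) s = (Finset.univ.filter fun i => g i = s).card := by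
  rw [Finsupp.finsetSum_apply, Finset.card_filter]
  exact Finset.sum_congr rfl fun i _ => by rw [Finsupp.single_apply]

theorem exists_sum_single {σ : Type w} (d : σ →₀ ℕ) (hd : (d.sum fun _ k => k) = Fintype.card ι) :
    ∃ g : ι → σ, ∑ i, Finsupp.single (g i) 1 = d := by
  classical
  let m := d.toMultiset
  have hm : m.toList.length = Fintype.card ι := by
    rw [Multiset.length_toList]
    exact (Finsupp.card_toMultiset d).trans hd
  let e := Fintype.equivFin ι
  refine ⟨fun i => m.toList.get (Fin.cast hm.symm (e i)), ?_⟩
  apply (Function.LeftInverse.injective Finsupp.toMultiset_toFinsupp)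
  rw [map_sum]
  simp only [Finsupp.toMultiset_single, one_smul]
  calc ∑ i, ({m.toList.get (Fin.cast hm.symm (e i))} : Multiset σ)
      = ∑ j : Fin m.toList.length, ({m.toList.get j} : Multiset σ) :=
        Fintype.sum_equiv (e.trans (finCongr hm.symm)) _ _ fun i => rfl
    _ = (m.toList.map fun a => ({a} : Multiset σ)).sum := by
        exact Fin.sum_univ_fun_getElem m.toList fun a => ({a} : Multiset σ)
    _ = m := by
        conv_rhs => rw [← m.coe_toList]
        rw [← Multiset.sum_coe, ← Multiset.map_coe, Multiset.sum_map_singleton]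

/-- Over a basis the symmetric power embeds in polynomials. -/
theorem eval_injective {σ : Type w} (b : Module.Basis σ R M) :
    Function.Injective (eval (ι := ι) (b.constr R (fun s => (MvPolynomial.X s : MvPolynomial σ R)))) := by
  classical
  let φ := b.constr R (fun s => (MvPolynomial.X s : MvPolynomial σ R))
  rw [← LinearMap.ker_eq_bot, Submodule.eq_bot_iff]
  intro x hx
  have hx' : x ∈ Submodule.span R
      (Set.range fun g : ι → σ => SymmetricPower.tprod R (fun i => b (g i))) := by
    rw [span_tprod_comp _ b.span_eq]; exact Submodule.mem_top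
  obtain ⟨c, rfl⟩ := Finsupp.mem_span_range_iff_exists_finsupp.mp hx'
  let deg : (ι → σ) → σ →₀ ℕ := fun g => ∑ i, Finsupp.single (g i) 1
  have he : ∀ g : ι → σ, eval φ (SymmetricPower.tprod R fun i => b (g i)) =
      MvPolynomial.monomial (deg g) 1 := fun g => by
    rw [eval_tprod]
    simp only [φ, Module.Basis.constr_basis]
    exact prod_X_eq_monomial g
  rw [LinearMap.mem_ker, map_finsuppSum] at hx
  have hcoef : ∀ d : σ →₀ ℕ, ∑ g ∈ c.support with deg g = d, c g = 0 := by
    intro d
    have := congrArg (MvPolynomial.coeff d) hx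
    simp only [Finsupp.sum, map_smul, he, MvPolynomial.coeff_sum, MvPolynomial.coeff_smul,
      MvPolynomial.coeff_monomial, smul_eq_mul, mul_ite, mul_one, mul_zero, MvPolynomial.coeff_zero,
      φ] at this
    rwa [Finset.sum_filter]
  rw [Finsupp.sum, ← Finset.sum_fiberwise_of_maps_to (g := deg) (t := c.support.image deg)
    (fun g hg => Finset.mem_image_of_mem deg hg)]
  refine Finset.sum_eq_zero fun d hd => ?_
  obtain ⟨g₀, _, rfl⟩ := Finset.mem_image.mp hd
  rw [Finset.sum_congr rfl (g := fun g => c g • SymmetricPower.tprod R fun i => b (g₀ i))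
    (fun g hg => ?_), ← Finset.sum_smul, hcoef, zero_smul]
  congr 1
  refine tprod_eq_of_count_eq b fun s => ?_
  rw [← sum_single_apply g s, ← sum_single_apply g₀ s]
  exact DFunLike.congr_fun (Finset.mem_filter.mp hg).2 s

end Poly

end Groth.Agent.H06PP.SymPow
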