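import Groth.Agent.H06PP.Basic
import Groth.Agent.H06PP.SymPow

/-! The canonical surjection `Sym^n Ω → I^n/I^(n+1)` and criteria for its injectivity. -/

set_option autoImplicit false

open scoped TensorProduct

namespace Groth.Agent.H06PP.Graded

universe u

theorem prod_sub_prod_mem {R : Type*} [CommRing R] (I : Ideal R) {κ : Type*} (s : Finset κ)
    {x y : κ → R} (hx : ∀ i ∈ s, x i ∈ I) (hy : ∀ i ∈ s, y i ∈ I) (h : ∀ i ∈ s, x i - y i ∈ I ^ 2) :
    ∏ i ∈ s, x i - ∏ i ∈ s, y i ∈ I ^ (s.card + 1) := by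
  classical
  induction s using Finset.induction_on with
  | empty => simp
  | insert a s ha ih =>
    rw [Finset.prod_insert ha, Finset.prod_insert ha, Finset.card_insert_of_notMem ha,
      show x a * ∏ i ∈ s, x i - y a * ∏ i ∈ s, y i =
        x a * (∏ i ∈ s, x i - ∏ i ∈ s, y i) + (x a - y a) * ∏ i ∈ s, y i by ring]
    refine add_mem ?_ ?_
    · rw [pow_succ' I]
      exact Ideal.mul_mem_mul (hx a (by simp))
        (ih (fun i hi => hx i (by simp [hi])) (fun i hi => hy i (by simp [hi]))
          fun i hi => h i (by simp [hi]))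
    · rw [show s.card + 1 + 1 = 2 + s.card by omega, pow_add]
      refine Ideal.mul_mem_mul (h a (by simp)) ?_
      rw [← Finset.prod_const]
      exact Ideal.prod_mem_prod fun i hi => hy i (by simp [hi])

theorem span_range_pow {R : Type*} [CommRing R] {κ : Type*} (f : κ → R) (k : ℕ) :
    Ideal.span (Set.range f) ^ k = Ideal.span (Set.range fun g : Fin k → κ => ∏ i, f (g i)) := by
  induction k with
  | zero => simp [Ideal.one_eq_top, Set.range_const]
  | succ k ih =>
    rw [pow_succ', ih, Ideal.span_mul_span']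
    congr 1
    ext x
    simp only [Set.mem_mul, Set.mem_range]
    constructor
    · rintro ⟨_, ⟨a, rfl⟩, _, ⟨g, rfl⟩, rfl⟩
      exact ⟨Fin.cons a g, by simp [Fin.prod_univ_succ]⟩
    · rintro ⟨g, rfl⟩
      exact ⟨_, ⟨g 0, rfl⟩, _, ⟨fun i => g i.succ, rfl⟩, (Fin.prod_univ_succ fun i => f (g i)).symm⟩

variable (A B : Type u) [CommRing A] [CommRing B] [Algebra A B]

local notation "I" => KaehlerDifferential.ideal A B

/-- `1 ⊗ b - b ⊗ 1`. -/
noncomputable def zeta (b : B) : B ⊗[A] B := (1 : B) ⊗ₜ[A] b - b ⊗ₜ[A] (1 : B)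

theorem zeta_mem (b : B) : zeta A B b ∈ I :=
  KaehlerDifferential.one_smul_sub_smul_one_mem_ideal A b

variable {A B}

theorem sub_mul'_mem (r : B ⊗[A] B) :
    r - algebraMap B (B ⊗[A] B) (Algebra.TensorProduct.lmul' A r) ∈ I := by
  show r - algebraMap B (B ⊗[A] B) (Algebra.TensorProduct.lmul' A r) ∈
    RingHom.ker (Algebra.TensorProduct.lmul' A (S := B))
  rw [RingHom.mem_ker, map_sub, Algebra.TensorProduct.algebraMap_apply,
    Algebra.TensorProduct.lmul'_apply_tmul, Algebra.algebraMap_self_apply, mul_one, sub_self]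

/-- The class in a graded piece. -/
noncomputable abbrev cls (k : ℕ) (x : B ⊗[A] B) (hx : x ∈ I ^ k) : PP16.grI A B k :=
  Submodule.Quotient.mk ⟨x, hx⟩

theorem cls_eq {k : ℕ} {x y : B ⊗[A] B} (hx : x ∈ I ^ k) (hy : y ∈ I ^ k)
    (h : x - y ∈ I ^ (k + 1)) : cls k x hx = cls k y hy :=
  (Submodule.Quotient.eq _).mpr h

theorem cls_eq_zero {k : ℕ} {x : B ⊗[A] B} (hx : x ∈ I ^ k) :
    cls k x hx = 0 ↔ x ∈ I ^ (k + 1) := Submodule.Quotient.mk_eq_zero _

theorem cls_eq_iff {k : ℕ} {x y : B ⊗[A] B} (hx : x ∈ I ^ k) (hy : y ∈ I ^ k) :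
    cls k x hx = cls k y hy ↔ x - y ∈ I ^ (k + 1) := Submodule.Quotient.eq _

theorem exists_rep (ω : KaehlerDifferential A B) :
    ∃ x : B ⊗[A] B, ∃ hx : x ∈ I, (I).toCotangent ⟨x, hx⟩ = ω := by
  obtain ⟨⟨x, hx⟩, rfl⟩ := Ideal.toCotangent_surjective _ ω
  exact ⟨x, hx, rfl⟩

/-- A representative of a differential in the diagonal ideal. -/
noncomputable def rep (ω : KaehlerDifferential A B) : B ⊗[A] B := (exists_rep ω).choose

theorem rep_mem (ω : KaehlerDifferential A B) : rep ω ∈ I := (exists_rep ω).choose_spec.choose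

theorem toCotangent_rep (ω : KaehlerDifferential A B) :
    (I).toCotangent ⟨rep ω, rep_mem ω⟩ = ω := (exists_rep ω).choose_spec.choose_spec

theorem rep_sub_mem {x : B ⊗[A] B} (hx : x ∈ I) :
    rep ((I).toCotangent ⟨x, hx⟩) - x ∈ I ^ 2 :=
  (Ideal.toCotangent_eq _).mp (toCotangent_rep ((I).toCotangent ⟨x, hx⟩))

theorem rep_add (ω ω' : KaehlerDifferential A B) : rep (ω + ω') - (rep ω + rep ω') ∈ I ^ 2 := by
  have h := rep_sub_mem (add_mem (rep_mem ω) (rep_mem ω'))
  rwa [show (I).toCotangent ⟨rep ω + rep ω', _⟩ = ω + ω' from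
    (map_add (I).toCotangent ⟨_, rep_mem ω⟩ ⟨_, rep_mem ω'⟩).trans
      (congrArg₂ (· + ·) (toCotangent_rep ω) (toCotangent_rep ω'))] at h

theorem rep_smul (b : B) (ω : KaehlerDifferential A B) :
    rep (b • ω) - algebraMap B (B ⊗[A] B) b * rep ω ∈ I ^ 2 := by
  have h := rep_sub_mem (Ideal.mul_mem_left (I) (algebraMap B (B ⊗[A] B) b) (rep_mem ω))
  rwa [show (I).toCotangent ⟨algebraMap B (B ⊗[A] B) b * rep ω, _⟩ = b • ω from
    ((I).toCotangent.map_smul (algebraMap B (B ⊗[A] B) b) ⟨_, rep_mem ω⟩).trans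
      ((congrArg (algebraMap B (B ⊗[A] B) b • ·) (toCotangent_rep ω)).trans
        (algebraMap_smul (B ⊗[A] B) b ω))] at h

theorem rep_D (b : B) : rep (KaehlerDifferential.D A B b) - zeta A B b ∈ I ^ 2 :=
  rep_sub_mem (zeta_mem A B b)

section

variable {ι : Type u} [Fintype ι]

theorem prod_mem (x : ι → B ⊗[A] B) (hx : ∀ i, x i ∈ I) : ∏ i, x i ∈ I ^ Fintype.card ι :=
  PP16.prod_mem_pow (I) Finset.univ x fun i _ => hx i

/-- The multilinear map behind `phi`. -/
noncomputable def phiMulti :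
    MultilinearMap B (fun _ : ι => KaehlerDifferential A B) (PP16.grI A B (Fintype.card ι)) where
  toFun ω := cls _ (∏ i, rep (ω i)) (prod_mem _ fun i => rep_mem _)
  map_update_add' := by
    intro _ ω j a b
    refine cls_eq _ (add_mem (prod_mem _ fun i => rep_mem _) (prod_mem _ fun i => rep_mem _)) ?_
    simp only [Function.apply_update (fun _ => rep (A := A) (B := B)),
      Finset.prod_update_of_mem (Finset.mem_univ j)]
    rw [← add_mul, ← sub_mul, show Fintype.card ι + 1 = 2 + (Finset.univ \ {j}).card by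
      rw [Finset.card_univ_sdiff, Finset.card_singleton]
      have := Fintype.card_pos_iff.mpr ⟨j⟩
      omega, pow_add]
    exact Ideal.mul_mem_mul (rep_add a b) (PP16.prod_mem_pow (I) _ _ fun i _ => rep_mem _)
  map_update_smul' := by
    intro _ ω j c a
    refine (cls_eq (y := algebraMap B (B ⊗[A] B) c * ∏ i, rep (Function.update ω j a i)) _
      (Ideal.mul_mem_left _ _ (prod_mem _ fun i => rep_mem _)) ?_).trans ?_
    · simp only [Function.apply_update (fun _ => rep (A := A) (B := B)),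
        Finset.prod_update_of_mem (Finset.mem_univ j)]
      rw [← mul_assoc, ← sub_mul, show Fintype.card ι + 1 = 2 + (Finset.univ \ {j}).card by
        rw [Finset.card_univ_sdiff, Finset.card_singleton]
        have := Fintype.card_pos_iff.mpr ⟨j⟩
        omega, pow_add]
      exact Ideal.mul_mem_mul (rep_smul c a) (PP16.prod_mem_pow (I) _ _ fun i _ => rep_mem _)
    · refine congrArg Submodule.Quotient.mk (Subtype.ext ?_)
      exact (Algebra.smul_def c _).symm

/-- The canonical map `Sym^ι Ω → I^k/I^(k+1)`. -/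
noncomputable def phi : SymmetricPower B ι (KaehlerDifferential A B) →ₗ[B] PP16.grI A B (Fintype.card ι) :=
  SymPow.lift phiMulti fun e x => cls_eq _ _ <| by
    rw [Equiv.prod_comp e fun i => rep (x i), sub_self]
    exact zero_mem _

theorem phi_tprod (ω : ι → KaehlerDifferential A B) (x : ι → B ⊗[A] B) (hx : ∀ i, x i ∈ I)
    (h : ∀ i, (I).toCotangent ⟨x i, hx i⟩ = ω i) :
    phi (SymmetricPower.tprod B ω) = cls _ (∏ i, x i) (prod_mem x hx) := by
  refine (SymPow.lift_tprod _ _ ω).trans (cls_eq _ _ ?_)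
  refine (prod_sub_prod_mem (I) Finset.univ (fun i _ => rep_mem _) (fun i _ => hx i)
    fun i _ => ?_)
  rw [← h i]
  exact rep_sub_mem (hx i)

theorem phi_tprod_D (b : ι → B) :
    phi (SymmetricPower.tprod B fun i => KaehlerDifferential.D A B (b i)) = PP16.zetaProd A B b :=
  phi_tprod _ (fun i => zeta A B (b i)) (fun i => zeta_mem A B _) fun _ => rfl

theorem span_tprod_D :
    Submodule.span B (Set.range fun b : ι → B =>
      SymmetricPower.tprod B fun i => KaehlerDifferential.D A B (b i)) = ⊤ :=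
  SymPow.span_tprod_comp _ (KaehlerDifferential.span_range_derivation A B)

theorem phi_surjective : Function.Surjective (phi (A := A) (B := B) (ι := ι)) := by
  intro q
  obtain ⟨⟨x, hx⟩, rfl⟩ := Submodule.Quotient.mk_surjective _ q
  suffices ∀ x ∈ I ^ Fintype.card ι, ∃ t, ∀ hx, phi (A := A) (B := B) (ι := ι) t = cls _ x hx by
    obtain ⟨t, ht⟩ := this x hx
    exact ⟨t, ht hx⟩
  clear hx x
  intro x hx
  rw [← KaehlerDifferential.span_range_eq_ideal, span_range_pow] at hx
  induction hx using Submodule.span_induction with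
  | mem y hy =>
    obtain ⟨g, rfl⟩ := hy
    refine ⟨SymmetricPower.tprod B fun i => KaehlerDifferential.D A B (g (Fintype.equivFin ι i)),
      fun hx => ?_⟩
    rw [phi_tprod_D]
    refine cls_eq _ _ ?_
    show ∏ i, zeta A B (g (Fintype.equivFin ι i)) - ∏ i, zeta A B (g i) ∈ _
    rw [Equiv.prod_comp (Fintype.equivFin ι) fun i => zeta A B (g i), sub_self]
    exact zero_mem _
  | zero => exact ⟨0, fun hx => by rw [map_zero]; exact ((cls_eq_zero hx).mpr (zero_mem _)).symm⟩
  | add a c ha hc iha ihc =>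
    replace ha : a ∈ I ^ Fintype.card ι := by
      rw [← KaehlerDifferential.span_range_eq_ideal, span_range_pow]; exact ha
    replace hc : c ∈ I ^ Fintype.card ι := by
      rw [← KaehlerDifferential.span_range_eq_ideal, span_range_pow]; exact hc
    obtain ⟨t, ht⟩ := iha
    obtain ⟨t', ht'⟩ := ihc
    exact ⟨t + t', fun hx => by rw [map_add, ht ha, ht' hc]; rfl⟩
  | smul r a ha iha =>
    replace ha : a ∈ I ^ Fintype.card ι := by
      rw [← KaehlerDifferential.span_range_eq_ideal, span_range_pow]; exact ha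
    obtain ⟨t, ht⟩ := iha
    refine ⟨Algebra.TensorProduct.lmul' A r • t, fun hx => ?_⟩
    rw [map_smul, ht ha]
    refine (Submodule.Quotient.eq _).mpr ?_
    show Algebra.TensorProduct.lmul' A r • a - r • a ∈ I ^ (Fintype.card ι + 1)
    rw [Algebra.smul_def, smul_eq_mul, ← sub_mul, pow_succ']
    refine Ideal.mul_mem_mul ?_ ha
    rw [← neg_sub]
    exact neg_mem (sub_mul'_mem r)

end

theorem isDiffSmooth_of_injective (hP : Module.Projective B (KaehlerDifferential A B))
    (h : ∀ (ι : Type u) [Fintype ι], Function.Injective (phi (A := A) (B := B) (ι := ι))) :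
    PP16.IsDiffSmooth A B :=
  ⟨hP, fun ι _ => ⟨phi, phi_tprod_D, h ι, phi_surjective⟩⟩

theorem phi_injective_of_isDiffSmooth (h : PP16.IsDiffSmooth A B) (ι : Type u) [Fintype ι] :
    Function.Injective (phi (A := A) (B := B) (ι := ι)) := by
  obtain ⟨φ, hφ, hbij⟩ := h.2 ι
  rw [show phi (A := A) (B := B) (ι := ι) = φ from
    LinearMap.ext_on_range span_tprod_D fun b => (phi_tprod_D b).trans (hφ b).symm]
  exact hbij.1

section Criterion

variable {Q : Type u} [CommRing Q] [Algebra A Q] [Algebra B Q] [IsScalarTower A B Q]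

/-- Injectivity of `phi` from a second algebra map to a test ring. -/
theorem phi_injective_of_second {ι : Type u} [Fintype ι] (δ : B →ₐ[A] Q) (N : Ideal Q)
    (hN : N ^ (Fintype.card ι + 1) = ⊥) (L : KaehlerDifferential A B →ₗ[B] Q)
    (hL : ∀ ω, L ω ∈ N)
    (hδ : ∀ b, δ b - algebraMap B Q b - L (KaehlerDifferential.D A B b) ∈ N ^ 2)
    (hinj : Function.Injective (SymPow.eval (ι := ι) L)) :
    Function.Injective (phi (A := A) (B := B) (ι := ι)) := by
  let Φ : B ⊗[A] B →ₐ[B] Q :=
    Algebra.TensorProduct.lift (Algebra.ofId B Q) δ fun _ _ => Commute.all _ _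
  have hz : ∀ b, Φ (zeta A B b) = δ b - algebraMap B Q b := fun b => by
    rw [zeta, map_sub, Algebra.TensorProduct.lift_tmul, Algebra.TensorProduct.lift_tmul, map_one,
      map_one, one_mul, mul_one, Algebra.ofId_apply]
  have hN2 : N ^ 2 ≤ N := Ideal.pow_le_self (by omega)
  have hI : (I).map Φ.toRingHom ≤ N := by
    rw [← KaehlerDifferential.span_range_eq_ideal, Ideal.map_span, Ideal.span_le]
    rintro _ ⟨_, ⟨b, rfl⟩, rfl⟩
    show Φ (zeta A B b) ∈ N
    rw [hz, ← sub_add_cancel (δ b - algebraMap B Q b) (L (KaehlerDifferential.D A B b))]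
    exact add_mem (hN2 (hδ b)) (hL _)
  have hcot : ∀ (x : B ⊗[A] B) (hx : x ∈ I), Φ x - L ((I).toCotangent ⟨x, hx⟩) ∈ N ^ 2 := by
    intro x hx
    have hx' := hx
    rw [← KaehlerDifferential.span_range_eq_ideal] at hx'
    induction hx' using Submodule.span_induction with
    | mem y hy =>
      obtain ⟨b, rfl⟩ := hy
      have := hδ b
      rw [← hz b] at this
      exact this
    | zero =>
      rw [show (I).toCotangent ⟨0, hx⟩ = (0 : KaehlerDifferential A B) from map_zero (I).toCotangent,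
        map_zero, map_zero, sub_zero]
      exact zero_mem _
    | add a c ha hc iha ihc =>
      replace ha : a ∈ I := by rw [← KaehlerDifferential.span_range_eq_ideal]; exact ha
      replace hc : c ∈ I := by rw [← KaehlerDifferential.span_range_eq_ideal]; exact hc
      rw [show (I).toCotangent ⟨a + c, hx⟩ =
          ((I).toCotangent ⟨a, ha⟩ + (I).toCotangent ⟨c, hc⟩ : KaehlerDifferential A B) from
          map_add (I).toCotangent ⟨a, ha⟩ ⟨c, hc⟩]
      erw [map_add Φ, L.map_add, add_sub_add_comm]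
      exact add_mem (iha ha) (ihc hc)
    | smul r a ha iha =>
      replace ha : a ∈ I := by rw [← KaehlerDifferential.span_range_eq_ideal]; exact ha
      let b := Algebra.TensorProduct.lmul' A r
      have e : (I).toCotangent ⟨r • a, hx⟩ = b • (I).toCotangent ⟨a, ha⟩ := by
        rw [← algebraMap_smul (B ⊗[A] B) b ((I).toCotangent ⟨a, ha⟩), ← map_smul]
        refine (Ideal.toCotangent_eq _).mpr ?_
        show r • a - algebraMap B (B ⊗[A] B) b * a ∈ I ^ 2
        rw [smul_eq_mul, ← sub_mul, pow_two]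
        exact Ideal.mul_mem_mul (sub_mul'_mem r) ha
      rw [e, smul_eq_mul, map_mul]
      erw [L.map_smul]
      rw [
        show Φ r * Φ a - b • L ((I).toCotangent ⟨a, ha⟩) =
          (Φ r - algebraMap B Q b) * Φ a + algebraMap B Q b * (Φ a - L ((I).toCotangent ⟨a, ha⟩)) by
          rw [Algebra.smul_def]; ring]
      refine add_mem ?_ (Ideal.mul_mem_left _ _ (iha ha))
      rw [pow_two, show Φ r - algebraMap B Q b = Φ (r - algebraMap B (B ⊗[A] B) b) by
        rw [map_sub, AlgHom.commutes]]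
      exact Ideal.mul_mem_mul (hI (Ideal.mem_map_of_mem _ (sub_mul'_mem r)))
        (hI (Ideal.mem_map_of_mem _ ha))
  have hvan : ∀ x ∈ I ^ (Fintype.card ι + 1), Φ x = 0 := fun x hx => by
    have h := Ideal.pow_right_mono hI (Fintype.card ι + 1)
    rw [← Ideal.map_pow, hN] at h
    exact Ideal.mem_bot.mp (h (Ideal.mem_map_of_mem Φ.toRingHom hx))
  let G : PP16.grI A B (Fintype.card ι) →ₗ[B] Q :=
    Submodule.liftQ _ (Φ.toLinearMap ∘ₗ Submodule.subtype _) fun x hx => hvan _ hx
  have key : G ∘ₗ phi = SymPow.eval L := SymPow.ext fun ω => by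
    rw [LinearMap.comp_apply, SymPow.eval_tprod,
      phi_tprod ω (fun i => rep (ω i)) (fun i => rep_mem _) fun i => toCotangent_rep _]
    show Φ (∏ i, rep (ω i)) = _
    rw [← sub_eq_zero, map_prod, ← Ideal.mem_bot, ← hN]
    refine prod_sub_prod_mem N Finset.univ (fun i _ => hI (Ideal.mem_map_of_mem _ (rep_mem _)))
      (fun i _ => hL _) fun i _ => ?_
    have := hcot _ (rep_mem (ω i))
    rwa [toCotangent_rep] at this
  have hcomp : Function.Injective (G ∘ phi (A := A) (B := B) (ι := ι)) := by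
    rw [← LinearMap.coe_comp, key]
    exact hinj
  exact hcomp.of_comp

end Criterion

end Groth.Agent.H06PP.Graded
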