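import Groth.Agent.H06PP.Graded
import Mathlib.RingTheory.Smooth.Basic
import Mathlib.RingTheory.MvPolynomial.Ideal
import Mathlib.RingTheory.Nilpotent.Exp

/-! Differential smoothness from lifts of the universal derivation to truncated polynomial rings. -/

set_option autoImplicit false

open scoped TensorProduct

namespace Groth.Agent.H06PP

universe u

open Graded

theorem SymPow.eval_comp {R ι : Type u} [CommRing R] [Fintype ι] {M : Type*} [AddCommGroup M] [Module R M]
    {S T : Type*} [CommRing S] [Algebra R S] [CommRing T] [Algebra R T] (f : S →ₐ[R] T) (φ : M →ₗ[R] S) :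
    SymPow.eval (ι := ι) (f.toLinearMap ∘ₗ φ) = f.toLinearMap ∘ₗ SymPow.eval φ :=
  SymPow.ext fun x => by simp [map_prod]

section Poly

variable {A B : Type u} [CommRing A] [CommRing B] [Algebra A B]
  (s : KaehlerDifferential A B →ₗ[B] KaehlerDifferential A B →₀ B)

/-- The linear form associated with a section of a presentation of `Ω`. -/
noncomputable def lin : KaehlerDifferential A B →ₗ[B] MvPolynomial (KaehlerDifferential A B) B :=
  Finsupp.linearCombination B MvPolynomial.X ∘ₗ s

theorem lin_mem (ω : KaehlerDifferential A B) :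
    lin s ω ∈ MvPolynomial.idealOfVars (KaehlerDifferential A B) B := by
  show Finsupp.linearCombination B MvPolynomial.X (s ω) ∈ _
  rw [Finsupp.linearCombination_apply]
  exact Ideal.sum_mem _ fun i _ => Submodule.smul_of_tower_mem _ _ (Ideal.subset_span ⟨i, rfl⟩)

theorem eval_lin_injective (hs : Function.LeftInverse (Finsupp.linearCombination B id) s)
    (ι : Type u) [Fintype ι] : Function.Injective (SymPow.eval (ι := ι) (lin s)) := by
  let m : SymmetricPower B ι (KaehlerDifferential A B) →ₗ[B]
      SymmetricPower B ι (KaehlerDifferential A B →₀ B) :=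
    SymPow.lift ((SymmetricPower.tprod B).compLinearMap fun _ => s) fun e x =>
      SymmetricPower.tprod_equiv e fun i => s (x i)
  let m' : SymmetricPower B ι (KaehlerDifferential A B →₀ B) →ₗ[B]
      SymmetricPower B ι (KaehlerDifferential A B) :=
    SymPow.lift ((SymmetricPower.tprod B).compLinearMap fun _ => Finsupp.linearCombination B id)
      fun e x => SymmetricPower.tprod_equiv e fun i => Finsupp.linearCombination B id (x i)
  have hm : Function.LeftInverse m' m := LinearMap.congr_fun
    (show m' ∘ₗ m = LinearMap.id from SymPow.ext fun x => by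
      simp only [m, m', LinearMap.comp_apply, LinearMap.id_apply]
      erw [SymPow.lift_tprod, MultilinearMap.compLinearMap_apply,
        SymPow.lift_tprod, MultilinearMap.compLinearMap_apply]
      exact congrArg _ (funext fun i => hs (x i)))
  let b : Module.Basis (KaehlerDifferential A B) B (KaehlerDifferential A B →₀ B) :=
    Finsupp.basisSingleOne
  have e : SymPow.eval (ι := ι) (lin s) =
      SymPow.eval (b.constr B fun i => MvPolynomial.X i) ∘ₗ m := SymPow.ext fun x => by
    simp only [m, LinearMap.comp_apply, SymPow.eval_tprod]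
    erw [SymPow.lift_tprod, MultilinearMap.compLinearMap_apply, SymPow.eval_tprod]
    refine Finset.prod_congr rfl fun i _ => ?_
    rw [Module.Basis.constr_apply]
    show Finsupp.linearCombination B MvPolynomial.X (s (x i)) = _
    rw [Finsupp.linearCombination_apply]
    rfl
  rw [e, LinearMap.coe_comp]
  exact (SymPow.eval_injective b).comp hm.injective

theorem eval_lin_isHomogeneous (ι : Type u) [Fintype ι]
    (t : SymmetricPower B ι (KaehlerDifferential A B)) :
    (SymPow.eval (lin s) t).IsHomogeneous (Fintype.card ι) := by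
  have ht : t ∈ Submodule.span B (Set.range (SymmetricPower.tprod B (ι := ι) (M := KaehlerDifferential A B))) := by
    rw [SymmetricPower.span_tprod_eq_top]; trivial
  induction ht using Submodule.span_induction with
  | mem y hy =>
    obtain ⟨x, rfl⟩ := hy
    rw [SymPow.eval_tprod, show Fintype.card ι = ∑ _i : ι, 1 by simp]
    refine MvPolynomial.IsHomogeneous.prod _ _ _ fun i _ => ?_
    show (Finsupp.linearCombination B MvPolynomial.X (s (x i))).IsHomogeneous 1
    rw [Finsupp.linearCombination_apply]
    exact MvPolynomial.IsHomogeneous.sum _ _ _ fun j _ =>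
      (MvPolynomial.homogeneousSubmodule _ _ 1).smul_mem _ (MvPolynomial.isHomogeneous_X B j)
  | zero => rw [map_zero]; exact MvPolynomial.isHomogeneous_zero ..
  | add a c _ _ ha hc => rw [map_add]; exact ha.add hc
  | smul r a _ ha => rw [map_smul]; exact (MvPolynomial.homogeneousSubmodule _ _ _).smul_mem r ha

theorem eq_zero_of_homogeneous {σ R : Type*} [CommRing R] {k : ℕ} {f : MvPolynomial σ R}
    (hf : f.IsHomogeneous k) (h : f ∈ MvPolynomial.idealOfVars σ R ^ (k + 1)) : f = 0 := by
  ext d
  rw [MvPolynomial.coeff_zero]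
  by_contra hd
  have h1 := (MvPolynomial.mem_pow_idealOfVars_iff _ f).mp h d (MvPolynomial.mem_support_iff.mpr hd)
  rw [hf.degree_eq_sum_deg_support (MvPolynomial.mem_support_iff.mpr hd)] at h1
  simp only [Finsupp.degree_apply] at h1
  omega

/-- Differential smoothness from lifts of `b ↦ b + d b` to truncated polynomial rings. -/
theorem isDiffSmooth_of_lifts (hP : Module.Projective B (KaehlerDifferential A B))
    (hlift : ∀ (k : ℕ) (Q : Type u) [CommRing Q] [Algebra A Q] [Algebra B Q] [IsScalarTower A B Q]
      (N : Ideal Q) (L : KaehlerDifferential A B →ₗ[B] Q),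
      (∃ (s : KaehlerDifferential A B →ₗ[B] KaehlerDifferential A B →₀ B)
        (p : MvPolynomial (KaehlerDifferential A B) B →ₐ[B] Q), Function.Surjective p ∧
        RingHom.ker p.toRingHom = MvPolynomial.idealOfVars _ B ^ (k + 1) ∧
        N = (MvPolynomial.idealOfVars _ B).map p.toRingHom ∧ L = p.toLinearMap ∘ₗ lin s) →
      ∃ δ : B →ₐ[A] Q, ∀ b, δ b - algebraMap B Q b - L (KaehlerDifferential.D A B b) ∈ N ^ 2) :
    PP16.IsDiffSmooth A B := by
  refine isDiffSmooth_of_injective hP fun ι _ => ?_
  obtain ⟨s, hs⟩ := hP.out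
  let I := MvPolynomial.idealOfVars (KaehlerDifferential A B) B
  let k := Fintype.card ι
  let Q := MvPolynomial (KaehlerDifferential A B) B ⧸ I ^ (k + 1)
  let p : MvPolynomial (KaehlerDifferential A B) B →ₐ[B] Q := Ideal.Quotient.mkₐ B _
  have hker : RingHom.ker p.toRingHom = I ^ (k + 1) :=
    Ideal.ext fun x => RingHom.mem_ker.trans Ideal.Quotient.eq_zero_iff_mem
  obtain ⟨δ, hδ⟩ := hlift k Q (I.map p.toRingHom) (p.toLinearMap ∘ₗ lin s)
    ⟨s, p, Ideal.Quotient.mk_surjective, hker, rfl, rfl⟩
  refine phi_injective_of_second δ (I.map p.toRingHom) (map_pow_of_ker p.toRingHom I hker) _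
    (fun ω => Ideal.mem_map_of_mem p.toRingHom (lin_mem s ω)) hδ ?_
  rw [SymPow.eval_comp]
  refine LinearMap.ker_eq_bot.mp ((Submodule.eq_bot_iff _).mpr fun t ht => ?_)
  have h0 : SymPow.eval (lin s) t ∈ I ^ (k + 1) := hker.le (RingHom.mem_ker.mpr ht)
  refine eval_lin_injective s hs ι ?_
  rw [eq_zero_of_homogeneous (eval_lin_isHomogeneous s ι t) h0, map_zero]

end Poly

section Existence

variable {A B : Type u} [CommRing A] [CommRing B] [Algebra A B]
  {Q : Type u} [CommRing Q] [Algebra A Q] [Algebra B Q] [IsScalarTower A B Q]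

theorem exists_second_of_formallySmooth [Algebra.FormallySmooth A B] (N : Ideal Q) (hN : IsNilpotent N)
    (L : KaehlerDifferential A B →ₗ[B] Q) (hL : ∀ ω, L ω ∈ N) :
    ∃ δ : B →ₐ[A] Q, ∀ b, δ b - algebraMap B Q b - L (KaehlerDifferential.D A B b) ∈ N ^ 2 := by
  let d : B → Q := fun b => algebraMap B Q b + L (KaehlerDifferential.D A B b)
  have hmul : ∀ a b, Ideal.Quotient.mk (N ^ 2) (d (a * b)) =
      Ideal.Quotient.mk (N ^ 2) (d a) * Ideal.Quotient.mk (N ^ 2) (d b) := fun a b => by
    rw [← map_mul, Ideal.Quotient.mk_eq_mk_iff_sub_mem]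
    simp only [d, Derivation.leibniz, map_add, LinearMap.map_smul, Algebra.smul_def, map_mul]
    ring_nf
    rw [← neg_mem_iff, neg_neg, pow_two]
    exact Ideal.mul_mem_mul (hL _) (hL _)
  let g : B →ₐ[A] Q ⧸ N ^ 2 :=
    { toFun := fun b => Ideal.Quotient.mk (N ^ 2) (d b)
      map_one' := by simp [d]
      map_mul' := hmul
      map_zero' := by simp [d]
      map_add' := fun a b => by
        rw [← map_add]; congr 1; simp only [d, map_add]; abel
      commutes' := fun a => by
        show Ideal.Quotient.mk (N ^ 2) (d (algebraMap A B a)) = _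
        rw [show d (algebraMap A B a) = algebraMap A Q a by
          simp [d, ← IsScalarTower.algebraMap_apply]]
        rfl }
  obtain ⟨m, hm⟩ := hN
  have h2 : IsNilpotent (N ^ 2) := ⟨m, by rw [← pow_mul, mul_comm, pow_mul, hm]; exact zero_pow two_ne_zero⟩
  refine ⟨Algebra.FormallySmooth.lift _ h2 g, fun b => ?_⟩
  rw [sub_sub, ← Ideal.Quotient.mk_eq_mk_iff_sub_mem, Algebra.FormallySmooth.mk_lift]
  rfl

theorem exists_second_of_rat [Module ℚ Q] (N : Ideal Q) (E : Derivation A Q Q) {m : ℕ}
    (hN : N ^ m = ⊥) (hEN : ∀ k, ∀ x ∈ N ^ k, E x ∈ N ^ (k + 1))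
    (L : KaehlerDifferential A B →ₗ[B] Q)
    (hE : ∀ b, E (algebraMap B Q b) = L (KaehlerDifferential.D A B b)) :
    ∃ δ : B →ₐ[A] Q, ∀ b, δ b - algebraMap B Q b - L (KaehlerDifferential.D A B b) ∈ N ^ 2 := by
  let E' : Module.End A Q := E.toLinearMap
  have hit : ∀ (k : ℕ) (x : Q), (E' ^ k) x ∈ N ^ k := fun k x => by
    induction k with
    | zero => simp
    | succ k ih => rw [pow_succ' E', Module.End.mul_apply]; exact hEN k _ ih
  have hnil : E' ^ (m + 2) = 0 := LinearMap.ext fun x => by
    have := hit (m + 2) x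
    rw [pow_add, hN, Ideal.bot_mul] at this
    exact Ideal.mem_bot.mp this
  have hmul := Module.End.exp_mul_of_derivation A Q E'
    (fun x y => (E.leibniz x y).trans (by rw [smul_eq_mul, smul_eq_mul, mul_comm y]; rfl)) ⟨_, hnil⟩
  have hexp : ∀ x, IsNilpotent.exp E' x =
      ∑ i ∈ Finset.range (m + 2), (i.factorial : ℚ)⁻¹ • (E' ^ i) x := fun x => by
    rw [IsNilpotent.exp_eq_sum hnil, LinearMap.sum_apply]
    rfl
  have hone : IsNilpotent.exp E' (1 : Q) = 1 := by
    rw [hexp, Finset.sum_range_succ', Finset.sum_eq_zero fun i _ => ?_]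
    · simp
    · rw [pow_succ, Module.End.mul_apply, show E' 1 = 0 from E.map_one_eq_zero, map_zero, smul_zero]
  let δ : B →ₐ[A] Q :=
    AlgHom.ofLinearMap (IsNilpotent.exp E' ∘ₗ (IsScalarTower.toAlgHom A B Q).toLinearMap)
      (by
        show IsNilpotent.exp E' (algebraMap B Q 1) = 1
        rw [map_one, hone])
      (fun a b => by
        show IsNilpotent.exp E' (algebraMap B Q (a * b)) = _
        rw [map_mul, hmul]
        rfl)
  refine ⟨δ, fun b => ?_⟩
  show IsNilpotent.exp E' (algebraMap B Q b) - algebraMap B Q b - _ ∈ _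
  rw [hexp, Finset.sum_range_succ', Finset.sum_range_succ', ← hE]
  simp only [pow_one, pow_zero, zero_add, Nat.factorial_one, Nat.factorial_zero, Nat.cast_one, inv_one,
    one_smul, Module.End.one_apply]
  rw [add_sub_cancel_right, show E' (algebraMap B Q b) = E (algebraMap B Q b) from rfl, add_sub_cancel_right]
  refine Ideal.sum_mem _ fun i _ => ?_
  rw [show ((((i + 1 + 1).factorial : ℚ))⁻¹) • (E' ^ (i + 1 + 1)) (algebraMap B Q b) =
    (((((i + 1 + 1).factorial : ℚ))⁻¹) • (1 : Q)) * (E' ^ (i + 1 + 1)) (algebraMap B Q b) from ?_]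
  · exact Ideal.mul_mem_left _ _ (Ideal.pow_le_pow_right (by omega) (hit _ _))
  · exact (map_rat_smul (AddMonoidHom.mulRight ((E' ^ (i + 1 + 1)) (algebraMap B Q b))) _ 1 |>.trans
      (congrArg _ (one_mul _))).symm

end Existence

section CoeffDerivation

variable {A B : Type u} [CommRing A] [CommRing B] [Algebra A B] {σ : Type*}

/-- The additive map `Σ c_d X^d ↦ Σ v(c_d) X^d`. -/
noncomputable def coeffMap (v : B →ₗ[A] MvPolynomial σ B) :
    MvPolynomial σ B →ₗ[A] MvPolynomial σ B where
  toFun p := ∑ d ∈ p.support, MvPolynomial.monomial d 1 * v (p.coeff d)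
  map_add' p q := by
    classical
    have h : ∀ (r : MvPolynomial σ B) (s : Finset (σ →₀ ℕ)), r.support ⊆ s →
        ∑ d ∈ r.support, MvPolynomial.monomial d 1 * v (r.coeff d) =
          ∑ d ∈ s, MvPolynomial.monomial d 1 * v (r.coeff d) := fun r s hs =>
      Finset.sum_subset hs fun d _ hd => by
        rw [MvPolynomial.notMem_support_iff.mp hd, map_zero, mul_zero]
    rw [h (p + q) (p.support ∪ q.support) MvPolynomial.support_add,
      h p _ Finset.subset_union_left, h q _ Finset.subset_union_right, ← Finset.sum_add_distrib]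
    exact Finset.sum_congr rfl fun d _ => by rw [MvPolynomial.coeff_add, map_add, mul_add]
  map_smul' a p := by
    classical
    have hs : (a • p).support ⊆ p.support := MvPolynomial.support_smul
    rw [Finset.sum_subset hs fun d _ hd => by
        rw [MvPolynomial.notMem_support_iff.mp hd, map_zero, mul_zero],
      RingHom.id_apply, Finset.smul_sum]
    exact Finset.sum_congr rfl fun d _ => by rw [MvPolynomial.coeff_smul, map_smul, mul_smul_comm]

theorem coeffMap_monomial (v : B →ₗ[A] MvPolynomial σ B) (d : σ →₀ ℕ) (c : B) :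
    coeffMap v (MvPolynomial.monomial d c) = MvPolynomial.monomial d 1 * v c := by
  classical
  show ∑ e ∈ (MvPolynomial.monomial d c).support, _ = _
  rw [Finset.sum_subset (MvPolynomial.support_monomial_subset) fun e _ he => by
      rw [MvPolynomial.notMem_support_iff.mp he, map_zero, mul_zero],
    Finset.sum_singleton, MvPolynomial.coeff_monomial, if_pos rfl]

end CoeffDerivation

theorem exists_derivation_extension {A B Q : Type u} [CommRing A] [CommRing B] [Algebra A B]
    [CommRing Q] [Algebra A Q] [Algebra B Q] [IsScalarTower A B Q] {σ : Type u}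
    (p : MvPolynomial σ B →ₐ[B] Q) (hp : Function.Surjective p) (k : ℕ)
    (hker : RingHom.ker p.toRingHom = MvPolynomial.idealOfVars σ B ^ (k + 1))
    (v : KaehlerDifferential A B →ₗ[B] MvPolynomial σ B)
    (hv : ∀ ω, v ω ∈ MvPolynomial.idealOfVars σ B) :
    ∃ E : Derivation A Q Q,
      (∀ j, ∀ x ∈ (MvPolynomial.idealOfVars σ B).map p.toRingHom ^ j,
        E x ∈ (MvPolynomial.idealOfVars σ B).map p.toRingHom ^ (j + 1)) ∧
      ∀ b, E (algebraMap B Q b) = p (v (KaehlerDifferential.D A B b)) := by
  classical
  let J := MvPolynomial.idealOfVars σ B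
  let w : B →ₗ[A] MvPolynomial σ B := v.restrictScalars A ∘ₗ (KaehlerDifferential.D A B).toLinearMap
  have hle : ∀ j, ∀ x ∈ J ^ j, coeffMap w x ∈ J ^ (j + 1) := by
    intro j x hx
    show ∑ d ∈ x.support, MvPolynomial.monomial d 1 * w (x.coeff d) ∈ _
    refine Ideal.sum_mem _ fun d hd => ?_
    rw [pow_succ]
    refine Ideal.mul_mem_mul ?_ (hv _)
    rcases subsingleton_or_nontrivial B with hB | hB
    · rw [Subsingleton.elim (MvPolynomial.monomial d (1 : B)) 0]; exact zero_mem _
    · exact (MvPolynomial.monomial_mem_pow_idealOfVars_iff j d one_ne_zero).mpr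
        ((MvPolynomial.mem_pow_idealOfVars_iff j x).mp hx d hd)
  have hleib : ∀ f g, coeffMap w (f * g) = f * coeffMap w g + g * coeffMap w f := by
    intro f g
    induction f using MvPolynomial.induction_on' with
    | monomial d c =>
      induction g using MvPolynomial.induction_on' with
      | monomial e c' =>
        rw [MvPolynomial.monomial_mul, coeffMap_monomial, coeffMap_monomial, coeffMap_monomial,
          show w (c * c') = c • w c' + c' • w c by
            show v (KaehlerDifferential.D A B (c * c')) = _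
            rw [Derivation.leibniz, map_add, map_smul, map_smul]
            rfl,
          Algebra.smul_def, Algebra.smul_def, MvPolynomial.algebraMap_eq,
          show MvPolynomial.monomial (d + e) (1 : B) =
            MvPolynomial.monomial d 1 * MvPolynomial.monomial e 1 by
            rw [MvPolynomial.monomial_mul, one_mul],
          show MvPolynomial.monomial d c = MvPolynomial.C c * MvPolynomial.monomial d 1 by
            rw [MvPolynomial.C_mul_monomial, mul_one],
          show MvPolynomial.monomial e c' = MvPolynomial.C c' * MvPolynomial.monomial e 1 by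
            rw [MvPolynomial.C_mul_monomial, mul_one]]
        ring
      | add a b ha hb => rw [mul_add, map_add, map_add, ha, hb]; ring
    | add a b ha hb => rw [add_mul, map_add, map_add, ha, hb]; ring
  let K : Submodule A (MvPolynomial σ B) := LinearMap.ker (p.restrictScalars A).toLinearMap
  have hK : K ≤ LinearMap.ker ((p.restrictScalars A).toLinearMap ∘ₗ coeffMap w) := by
    intro x hx
    have h1 : x ∈ RingHom.ker p.toRingHom := hx
    rw [hker] at h1
    exact hker.ge (Ideal.pow_le_pow_right (by omega) (hle _ _ h1))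
  let e₀ : Q →ₗ[A] Q := (Submodule.liftQ K _ hK) ∘ₗ
    (LinearMap.quotKerEquivOfSurjective (p.restrictScalars A).toLinearMap hp).symm.toLinearMap
  have he₀ : ∀ x, e₀ (p x) = p (coeffMap w x) := fun x => by
    show Submodule.liftQ K _ hK ((LinearMap.quotKerEquivOfSurjective _ hp).symm (p x)) = _
    rw [show (LinearMap.quotKerEquivOfSurjective (p.restrictScalars A).toLinearMap hp).symm (p x) =
      Submodule.Quotient.mk x from (LinearEquiv.symm_apply_eq _).mpr rfl]
    rfl
  refine ⟨Derivation.mk' e₀ fun a b => ?_, ?_, fun b => ?_⟩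
  · obtain ⟨a, rfl⟩ := hp a
    obtain ⟨b, rfl⟩ := hp b
    rw [← map_mul, he₀, he₀, he₀, hleib, map_add, map_mul, map_mul, smul_eq_mul, smul_eq_mul]
  · intro j x hx
    rw [← Ideal.map_pow] at hx ⊢
    obtain ⟨y, hy, rfl⟩ := (Ideal.mem_map_iff_of_surjective _ hp).mp hx
    exact (he₀ y).symm ▸ Ideal.mem_map_of_mem _ (hle j y hy)
  · rw [← p.commutes b, MvPolynomial.algebraMap_eq]
    show e₀ (p (MvPolynomial.C b)) = _
    rw [he₀, show MvPolynomial.C b = MvPolynomial.monomial 0 b from rfl, coeffMap_monomial]
    show p (1 * _) = _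
    rw [one_mul]
    rfl

end Groth.Agent.H06PP
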