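import Groth.Agent.H06PP.Lifts
import Mathlib.RingTheory.Kaehler.TensorProduct

/-! Differential smoothness and base change. -/

set_option autoImplicit false

open scoped TensorProduct

namespace Groth.Agent.H06PP.SmoothBC

universe u

open Graded

theorem eval_injective_of_retraction {R ι : Type u} [CommRing R] [Fintype ι] {M : Type u} [AddCommGroup M]
    [Module R M] {σ : Type u} (s : M →ₗ[R] σ →₀ R) (r : (σ →₀ R) →ₗ[R] M) (hrs : ∀ x, r (s x) = x) :
    Function.Injective (SymPow.eval (ι := ι) (Finsupp.linearCombination R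
      (fun i => (MvPolynomial.X i : MvPolynomial σ R)) ∘ₗ s)) := by
  let m : SymmetricPower R ι M →ₗ[R] SymmetricPower R ι (σ →₀ R) :=
    SymPow.lift ((SymmetricPower.tprod R).compLinearMap fun _ => s) fun e x =>
      SymmetricPower.tprod_equiv e fun i => s (x i)
  let m' : SymmetricPower R ι (σ →₀ R) →ₗ[R] SymmetricPower R ι M :=
    SymPow.lift ((SymmetricPower.tprod R).compLinearMap fun _ => r)
      fun e x => SymmetricPower.tprod_equiv e fun i => r (x i)
  have hm : Function.LeftInverse m' m := LinearMap.congr_fun
    (show m' ∘ₗ m = LinearMap.id from SymPow.ext fun x => by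
      simp only [m, m', LinearMap.comp_apply, LinearMap.id_apply]
      erw [SymPow.lift_tprod, MultilinearMap.compLinearMap_apply,
        SymPow.lift_tprod, MultilinearMap.compLinearMap_apply]
      exact congrArg _ (funext fun i => hrs (x i)))
  let b : Module.Basis σ R (σ →₀ R) := Finsupp.basisSingleOne
  have e : SymPow.eval (ι := ι) (Finsupp.linearCombination R
        (fun i => (MvPolynomial.X i : MvPolynomial σ R)) ∘ₗ s) =
      SymPow.eval (b.constr R fun i => MvPolynomial.X i) ∘ₗ m := SymPow.ext fun x => by
    simp only [m, LinearMap.comp_apply, SymPow.eval_tprod]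
    erw [SymPow.lift_tprod, MultilinearMap.compLinearMap_apply, SymPow.eval_tprod]
    refine Finset.prod_congr rfl fun i _ => ?_
    rw [Module.Basis.constr_apply, Finsupp.linearCombination_apply]
    rfl
  rw [e, LinearMap.coe_comp]
  exact (SymPow.eval_injective b).comp hm.injective

section Second

variable {A B : Type u} [CommRing A] [CommRing B] [Algebra A B]
  {Q : Type u} [CommRing Q] [Algebra A Q] [Algebra B Q] [IsScalarTower A B Q]

/-- The endomorphism of the polynomial ring attached to a section. -/
noncomputable def proj (s : KaehlerDifferential A B →ₗ[B] KaehlerDifferential A B →₀ B) :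
    MvPolynomial (KaehlerDifferential A B) B →ₐ[B] MvPolynomial (KaehlerDifferential A B) B :=
  MvPolynomial.aeval (lin s)

theorem proj_lin (s : KaehlerDifferential A B →ₗ[B] KaehlerDifferential A B →₀ B)
    (hs : Function.LeftInverse (Finsupp.linearCombination B id) s) (ω : KaehlerDifferential A B) :
    proj s (lin s ω) = lin s ω := by
  conv_rhs => rw [← hs ω]
  show (proj s).toLinearMap (Finsupp.linearCombination B MvPolynomial.X (s ω)) = lin s (Finsupp.linearCombination B id (s ω))
  rw [Finsupp.apply_linearCombination B (proj s).toLinearMap, Finsupp.apply_linearCombination B (lin s)]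
  refine congrArg (fun g => Finsupp.linearCombination B g (s ω)) (funext fun i => ?_)
  exact MvPolynomial.aeval_X (lin s) i

theorem mem_vars_of_S (s : KaehlerDifferential A B →ₗ[B] KaehlerDifferential A B →₀ B)
    (S : MvPolynomial (KaehlerDifferential A B) B →ₐ[B] B ⊗[A] B)
    (hS : ∀ i, S (MvPolynomial.X i) ∈ KaehlerDifferential.ideal A B)
    {f : MvPolynomial (KaehlerDifferential A B) B} (hf : S f ∈ KaehlerDifferential.ideal A B) :
    proj s f ∈ MvPolynomial.idealOfVars (KaehlerDifferential A B) B := by
  let J := MvPolynomial.idealOfVars (KaehlerDifferential A B) B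
  have hdec : f - MvPolynomial.C (MvPolynomial.coeff 0 f) ∈ J := by
    rw [← pow_one J, MvPolynomial.mem_pow_idealOfVars_iff']
    intro x hx
    obtain rfl : x = 0 := (Finsupp.degree_eq_zero_iff x).mp (by omega)
    simp
  have hSle : J ≤ (KaehlerDifferential.ideal A B).comap S.toRingHom := by
    refine Ideal.span_le.mpr ?_
    rintro _ ⟨i, rfl⟩
    exact hS i
  have hc : MvPolynomial.coeff 0 f = 0 := by
    have h := sub_mem hf (hSle hdec)
    change S f - S (f - MvPolynomial.C (MvPolynomial.coeff 0 f)) ∈ _ at h
    rw [← map_sub, sub_sub_cancel, ← MvPolynomial.algebraMap_eq, AlgHom.commutes] at h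
    have h' : Algebra.TensorProduct.lmul' A (algebraMap B (B ⊗[A] B) (MvPolynomial.coeff 0 f)) = 0 := h
    simpa using h'
  rw [hc, map_zero, sub_zero] at hdec
  have hπ : J ≤ J.comap (proj s).toRingHom := by
    refine Ideal.span_le.mpr ?_
    rintro _ ⟨i, rfl⟩
    show proj s (MvPolynomial.X i) ∈ J
    rw [proj, MvPolynomial.aeval_X]
    exact lin_mem s i
  exact hπ hdec

theorem exists_second_of_isDiffSmooth (hB : PP16.IsDiffSmooth A B) (k : ℕ)
    (s : KaehlerDifferential A B →ₗ[B] KaehlerDifferential A B →₀ B)
    (hs : Function.LeftInverse (Finsupp.linearCombination B id) s)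
    (p : MvPolynomial (KaehlerDifferential A B) B →ₐ[B] Q)
    (hker : MvPolynomial.idealOfVars _ B ^ (k + 1) ≤ RingHom.ker p.toRingHom) :
    ∃ δ : B →ₐ[A] Q, ∀ b, δ b - algebraMap B Q b - p (lin s (KaehlerDifferential.D A B b)) ∈
      (MvPolynomial.idealOfVars _ B).map p.toRingHom ^ 2 := by
  classical
  let I := KaehlerDifferential.ideal A B
  let J := MvPolynomial.idealOfVars (KaehlerDifferential A B) B
  let P := PP16.P k A B
  -- a linear lift of the differentials into the augmentation ideal
  let cot : ↥(I.restrictScalars B) →ₗ[B] KaehlerDifferential A B :=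
    { toFun := fun x => I.toCotangent ⟨x.1, x.2⟩
      map_add' := fun x y => map_add I.toCotangent ⟨x.1, x.2⟩ ⟨y.1, y.2⟩
      map_smul' := fun b x => by
        refine Eq.trans ?_ (algebraMap_smul (B ⊗[A] B) b (I.toCotangent ⟨x.1, x.2⟩))
        rw [← map_smul]
        exact congrArg I.toCotangent (Subtype.ext (algebraMap_smul (B ⊗[A] B) b x.1).symm) }
  have hcot : Function.Surjective cot := fun ω => by
    obtain ⟨⟨x, hx⟩, rfl⟩ := Ideal.toCotangent_surjective I ω
    exact ⟨⟨x, hx⟩, rfl⟩
  have := hB.1
  obtain ⟨l, hl⟩ := Module.projective_lifting_property cot LinearMap.id hcot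
  let s₀ : KaehlerDifferential A B → B ⊗[A] B := fun ω => ((l ω).1)
  have hs₀ : ∀ ω, s₀ ω ∈ I := fun ω => (l ω).2
  have hs₀D : ∀ b, s₀ (KaehlerDifferential.D A B b) - zeta A B b ∈ I ^ 2 := fun b =>
    (Ideal.toCotangent_eq I (x := ⟨_, hs₀ _⟩) (y := ⟨_, zeta_mem A B b⟩)).mp
      (LinearMap.congr_fun hl (KaehlerDifferential.D A B b))
  let S : MvPolynomial (KaehlerDifferential A B) B →ₐ[B] B ⊗[A] B := MvPolynomial.aeval s₀
  have hSlin : ∀ ω, S (lin s ω) = s₀ ω := fun ω => by
    conv_rhs => rw [← hs ω]
    let s₁ : KaehlerDifferential A B →ₗ[B] B ⊗[A] B := (I.restrictScalars B).subtype ∘ₗ l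
    show S.toLinearMap (Finsupp.linearCombination B MvPolynomial.X (s ω)) =
      s₁ (Finsupp.linearCombination B id (s ω))
    rw [Finsupp.apply_linearCombination B S.toLinearMap, Finsupp.apply_linearCombination B s₁]
    refine congrArg (fun g => Finsupp.linearCombination B g (s ω)) (funext fun i => ?_)
    exact MvPolynomial.aeval_X s₀ i
  have hSπ : ∀ f, S (proj s f) = S f := fun f => AlgHom.congr_fun
    (show S.comp (proj s) = S from MvPolynomial.algHom_ext fun i => by
      rw [AlgHom.comp_apply, proj, MvPolynomial.aeval_X, hSlin, MvPolynomial.aeval_X]) f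
  have hSJ : ∀ j, ∀ f ∈ J ^ j, S f ∈ I ^ j := fun j f hf => by
    have h : J ≤ I.comap S.toRingHom := by
      refine Ideal.span_le.mpr ?_
      rintro _ ⟨i, rfl⟩
      show S (MvPolynomial.X i) ∈ I
      rw [MvPolynomial.aeval_X]
      exact hs₀ i
    exact (Ideal.pow_right_mono h j).trans (Ideal.le_comap_pow _ j) hf
  -- polynomials in the kernel have small projection
  have hkey : ∀ f, S f ∈ I ^ (k + 1) → proj s f ∈ J ^ (k + 1) := by
    intro f hf
    suffices ∀ j ≤ k + 1, proj s f ∈ J ^ j from this _ le_rfl
    intro j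
    induction j with
    | zero => intro _; simp
    | succ j ih =>
      intro hj
      have h1 := ih (by omega)
      let g := MvPolynomial.homogeneousComponent j (proj s f)
      have h2 : proj s f - g ∈ J ^ (j + 1) := by
        rw [MvPolynomial.mem_pow_idealOfVars_iff']
        intro x hx
        rw [MvPolynomial.coeff_sub, MvPolynomial.coeff_homogeneousComponent]
        split_ifs with hd
        · exact sub_self _
        · rw [(MvPolynomial.mem_pow_idealOfVars_iff' j _).mp h1 x (by omega), sub_zero]
      suffices hg : g = 0 by rwa [hg, sub_zero] at h2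
      obtain ⟨ι, _, rfl⟩ : ∃ (ι : Type u) (_ : Fintype ι), Fintype.card ι = j :=
        ⟨ULift.{u} (Fin j), inferInstance, by simp⟩
      have hrange : g ∈ LinearMap.range (SymPow.eval (ι := ι) (lin s)) := by
        have hall : ∀ f, MvPolynomial.homogeneousComponent (Fintype.card ι) (proj s f) ∈
            LinearMap.range (SymPow.eval (ι := ι) (lin s)) := by
          intro f
          induction f using MvPolynomial.induction_on' with
          | add a b ha hb => rw [map_add, map_add]; exact add_mem ha hb
          | monomial d c =>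
            have hd : (proj s (MvPolynomial.monomial d c)).IsHomogeneous d.degree := by
              rw [proj, MvPolynomial.aeval_monomial, MvPolynomial.algebraMap_eq, ← zero_add d.degree]
              refine (MvPolynomial.isHomogeneous_C _ c).mul ?_
              rw [Finsupp.degree_apply]
              refine MvPolynomial.IsHomogeneous.prod _ _ _ fun i _ => ?_
              have h1 : (lin s i).IsHomogeneous 1 := by
                show (Finsupp.linearCombination B MvPolynomial.X (s i)).IsHomogeneous 1
                rw [Finsupp.linearCombination_apply]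
                exact MvPolynomial.IsHomogeneous.sum _ _ _ fun q _ =>
                  (MvPolynomial.homogeneousSubmodule _ _ 1).smul_mem _ (MvPolynomial.isHomogeneous_X B q)
              simpa using h1.pow (d i)
            rw [MvPolynomial.homogeneousComponent_of_mem hd]
            split_ifs with heq
            · obtain ⟨g, hg⟩ := SymPow.exists_sum_single (ι := ι) d
                ((Finsupp.degree_apply d).symm.trans heq.symm)
              refine ⟨c • SymmetricPower.tprod B g, ?_⟩
              rw [map_smul, SymPow.eval_tprod, ← mul_one c, ← smul_eq_mul, ← MvPolynomial.smul_monomial,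
                map_smul, ← hg, ← SymPow.prod_X_eq_monomial, map_prod, smul_eq_mul, mul_one]
              simp only [proj, MvPolynomial.aeval_X]
            · exact zero_mem _
        exact hall f
      obtain ⟨t, ht⟩ := hrange
      have hphi : ∀ t : SymmetricPower B ι (KaehlerDifferential A B), ∀ h,
          phi t = cls _ (S (SymPow.eval (lin s) t)) h := by
        intro t
        have htm : t ∈ Submodule.span B
            (Set.range (SymmetricPower.tprod B (ι := ι) (M := KaehlerDifferential A B))) := by
          rw [SymmetricPower.span_tprod_eq_top]; trivial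
        have hmem : ∀ t, S (SymPow.eval (ι := ι) (lin s) t) ∈ I ^ Fintype.card ι := fun t =>
          hSJ _ _ <| by
            rw [MvPolynomial.mem_pow_idealOfVars_iff]
            intro d hd
            rw [(eval_lin_isHomogeneous s ι t).degree_eq_sum_deg_support hd]
            exact (Finsupp.degree_apply d).symm ▸ le_rfl
        induction htm using Submodule.span_induction with
        | mem y hy =>
          obtain ⟨x, rfl⟩ := hy
          intro h
          rw [phi_tprod x (fun i => s₀ (x i)) (fun i => hs₀ _) fun i => LinearMap.congr_fun hl (x i)]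
          refine cls_eq _ _ ?_
          rw [SymPow.eval_tprod, map_prod]
          simp only [hSlin, sub_self]
          exact zero_mem _
        | zero =>
          intro h
          rw [map_zero]
          exact ((cls_eq_zero h).mpr (by rw [map_zero, map_zero]; exact zero_mem _)).symm
        | add a c _ _ ha hc =>
          intro h
          rw [map_add, ha (hmem a), hc (hmem c)]
          exact congrArg Submodule.Quotient.mk (Subtype.ext (by
            show S (SymPow.eval (lin s) a) + S (SymPow.eval (lin s) c) = S (SymPow.eval (lin s) (a + c))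
            rw [map_add, map_add]))
        | smul r a _ ha =>
          intro h
          rw [map_smul, ha (hmem a)]
          exact congrArg Submodule.Quotient.mk (Subtype.ext (by
            show r • S (SymPow.eval (lin s) a) = S (SymPow.eval (lin s) (r • a))
            rw [map_smul, map_smul]))
      have hSg : S g ∈ I ^ (Fintype.card ι + 1) := by
        rw [show g = proj s f - (proj s f - g) by ring, map_sub, hSπ]
        exact sub_mem (Ideal.pow_le_pow_right hj hf) (hSJ _ _ h2)
      have h0 : phi t = 0 := by
        rw [← ht] at hSg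
        rw [hphi t (Ideal.pow_le_pow_right (Nat.le_succ _) hSg)]
        exact (cls_eq_zero _).mpr hSg
      rw [← ht, phi_injective_of_isDiffSmooth hB ι (h0.trans (map_zero (phi (A := A) (B := B) (ι := ι))).symm),
        map_zero]
  -- surjectivity and the inverse
  let Φ : MvPolynomial (KaehlerDifferential A B) B →ₐ[B] P := (Ideal.Quotient.mkₐ B _).comp S
  have hsurj : Function.Surjective Φ := by
    have hstep : ∀ j, ∀ x ∈ I ^ j, ∃ f ∈ J ^ j, x - S f ∈ I ^ (j + 1) := by
      intro j x hx
      simp only [I] at hx
      rw [← KaehlerDifferential.span_range_eq_ideal, span_range_pow] at hx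
      induction hx using Submodule.span_induction with
      | mem y hy =>
        obtain ⟨g, rfl⟩ := hy
        refine ⟨∏ i, MvPolynomial.X (KaehlerDifferential.D A B (g i)), ?_, ?_⟩
        · simpa using Ideal.prod_mem_prod (s := Finset.univ) (I := fun _ => J)
            (x := fun i => MvPolynomial.X (KaehlerDifferential.D A B (g i)))
            fun i _ => Ideal.subset_span ⟨_, rfl⟩
        · rw [map_prod]
          simp only [S, MvPolynomial.aeval_X]
          have h := prod_sub_prod_mem I Finset.univ (x := fun i => zeta A B (g i))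
            (y := fun i => s₀ (KaehlerDifferential.D A B (g i))) (fun i _ => zeta_mem A B _)
            (fun i _ => hs₀ _) fun i _ => by rw [← neg_sub]; exact neg_mem (hs₀D _)
          simpa [zeta] using h
      | zero => exact ⟨0, zero_mem _, by simp⟩
      | add a c _ _ ha hc =>
        obtain ⟨f, hf, hfa⟩ := ha
        obtain ⟨g, hg, hgc⟩ := hc
        exact ⟨f + g, add_mem hf hg, by rw [map_add, add_sub_add_comm]; exact add_mem hfa hgc⟩
      | smul r a ha' ha =>
        replace ha' : a ∈ I ^ j := by
          simp only [I]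
          rw [← KaehlerDifferential.span_range_eq_ideal, span_range_pow]; exact ha'
        obtain ⟨f, hf, hfa⟩ := ha
        refine ⟨Algebra.TensorProduct.lmul' A r • f, Submodule.smul_of_tower_mem _ _ hf, ?_⟩
        rw [map_smul, smul_eq_mul, Algebra.smul_def,
          show r * a - algebraMap B (B ⊗[A] B) (Algebra.TensorProduct.lmul' A r) * S f =
            (r - algebraMap B (B ⊗[A] B) (Algebra.TensorProduct.lmul' A r)) * a +
              algebraMap B (B ⊗[A] B) (Algebra.TensorProduct.lmul' A r) * (a - S f) by ring]
        refine add_mem ?_ (Ideal.mul_mem_left _ _ hfa)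
        rw [pow_succ' I]
        exact Ideal.mul_mem_mul (sub_mul'_mem r) ha'
    have hred : ∀ j, ∀ x : B ⊗[A] B, ∃ f, x - S f ∈ I ^ j := by
      intro j
      induction j with
      | zero => exact fun x => ⟨0, by simp⟩
      | succ j ih =>
        intro x
        obtain ⟨f, hf⟩ := ih x
        obtain ⟨g, -, hg⟩ := hstep j _ hf
        exact ⟨f + g, by rw [map_add, ← sub_sub]; exact hg⟩
    intro x
    obtain ⟨x, rfl⟩ := Ideal.Quotient.mk_surjective x
    obtain ⟨f, hf⟩ := hred (k + 1) x
    exact ⟨f, ((Ideal.Quotient.mk_eq_mk_iff_sub_mem x (S f)).mpr hf).symm⟩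
  have hle : RingHom.ker Φ.toRingHom ≤ RingHom.ker (p.comp (proj s)).toRingHom := fun f hf =>
    hker (hkey f (Ideal.Quotient.eq_zero_iff_mem.mp hf))
  let ψ : P →ₐ[B] Q := AlgHom.liftOfSurjective Φ hsurj (p.comp (proj s)) hle
  have hψ : ∀ f, ψ (Φ f) = p (proj s f) := fun f => AlgHom.liftOfSurjective_apply ..
  refine ⟨(ψ.restrictScalars A).comp (PP16.dn k A B), fun b => ?_⟩
  let ω := KaehlerDifferential.D A B b
  let N := J.map p.toRingHom
  have hψJ : (PP16.augIdeal k A B).map ψ.toRingHom ≤ N := by
    rw [augIdeal_eq_span, Ideal.map_span, Ideal.span_le]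
    rintro _ ⟨_, ⟨c, rfl⟩, rfl⟩
    have hq : PP16.dn k A B c - algebraMap B P c =
        Φ (MvPolynomial.X (KaehlerDifferential.D A B c)) +
          Ideal.Quotient.mk _ (zeta A B c - s₀ (KaehlerDifferential.D A B c)) := by
      show Ideal.Quotient.mk _ (zeta A B c) = Ideal.Quotient.mk _ (S _) + _
      rw [MvPolynomial.aeval_X, ← map_add, add_sub_cancel]
    show ψ (PP16.dn k A B c - algebraMap B P c) ∈ N
    rw [hq]
    obtain ⟨g, hg⟩ := hsurj (Ideal.Quotient.mk _ (zeta A B c - s₀ (KaehlerDifferential.D A B c)))
    rw [← hg, ← map_add, hψ]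
    refine Ideal.mem_map_of_mem p.toRingHom ?_
    have : S (MvPolynomial.X (KaehlerDifferential.D A B c) + g) ∈ I := by
      rw [map_add, MvPolynomial.aeval_X]
      refine add_mem (hs₀ _) ?_
      have h1 : S g - (zeta A B c - s₀ (KaehlerDifferential.D A B c)) ∈ I ^ (k + 1) :=
        (Ideal.Quotient.mk_eq_mk_iff_sub_mem _ _).mp hg
      simpa using add_mem (Ideal.pow_le_self (Nat.succ_ne_zero k) h1)
        (sub_mem (zeta_mem A B c) (hs₀ (KaehlerDifferential.D A B c)))
    exact mem_vars_of_S s S (fun i => by rw [MvPolynomial.aeval_X]; exact hs₀ i) this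
  show ψ (PP16.dn k A B b) - algebraMap B Q b - p (lin s ω) ∈ N ^ 2
  rw [← ψ.commutes b, ← proj_lin s hs ω, ← hψ, ← map_sub, ← map_sub]
  refine Ideal.pow_right_mono hψJ 2 ?_
  rw [← Ideal.map_pow]
  refine Ideal.mem_map_of_mem ψ.toRingHom ?_
  show _ ∈ PP16.augIdeal k A B ^ 2
  rw [show PP16.dn k A B b - algebraMap B P b - Φ (lin s ω) =
      Ideal.Quotient.mk _ (zeta A B b - s₀ ω) by
    show Ideal.Quotient.mk _ (zeta A B b) - Ideal.Quotient.mk _ (S (lin s ω)) = _
    rw [hSlin, map_sub]]
  rw [PP16.augIdeal, ← Ideal.map_pow]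
  refine Ideal.mem_map_of_mem _ ?_
  rw [← neg_sub]
  exact neg_mem (hs₀D b)

end Second

section Pushout

variable {A B A' B' : Type u} [CommRing A] [CommRing B] [Algebra A B]
  [CommRing A'] [CommRing B'] [Algebra A' B'] [Algebra A A'] [Algebra B B'] [Algebra A B']
  [IsScalarTower A A' B'] [IsScalarTower A B B'] [Algebra.IsPushout A B A' B']

variable (A' B') in
theorem exists_baseChange_lin (s : KaehlerDifferential A B →ₗ[B] KaehlerDifferential A B →₀ B)
    (hs : Function.LeftInverse (Finsupp.linearCombination B id) s) :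
    ∃ L : KaehlerDifferential A' B' →ₗ[B'] MvPolynomial (KaehlerDifferential A B) B',
      (∀ b, L (KaehlerDifferential.D A' B' (algebraMap B B' b)) =
        MvPolynomial.map (algebraMap B B') (lin s (KaehlerDifferential.D A B b))) ∧
      (∀ ω, L ω ∈ MvPolynomial.idealOfVars (KaehlerDifferential A B) B') ∧
      (∀ (ι : Type u) [Fintype ι], Function.Injective (SymPow.eval (ι := ι) L) ∧
        ∀ t, (SymPow.eval (ι := ι) L t).IsHomogeneous (Fintype.card ι)) := by
  classical
  have : Algebra.IsPushout A A' B B' := Algebra.IsPushout.symm inferInstance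
  let e := KaehlerDifferential.tensorKaehlerEquiv A A' B B'
  let Ω := KaehlerDifferential A B
  let g : Ω →ₗ[B] (Ω →₀ B') := Finsupp.mapRange.linearMap (Algebra.linearMap B B') ∘ₗ s
  let s' : KaehlerDifferential A' B' →ₗ[B'] Ω →₀ B' := g.liftBaseChange B' ∘ₗ e.symm.toLinearMap
  let r' : (Ω →₀ B') →ₗ[B'] KaehlerDifferential A' B' :=
    Finsupp.linearCombination B' fun ω => e (1 ⊗ₜ ω)
  have hg : ∀ ω, r' (g ω) = e (1 ⊗ₜ ω) := fun ω => by
    conv_rhs => rw [← hs ω]
    show Finsupp.linearCombination B' _ (Finsupp.mapRange _ (map_zero _) (s ω)) = _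
    rw [Finsupp.linearCombination_apply, Finsupp.sum_mapRange_index (by simp),
      Finsupp.linearCombination_apply, Finsupp.sum, Finsupp.sum, TensorProduct.tmul_sum, map_sum]
    refine Finset.sum_congr rfl fun i _ => ?_
    rw [id_eq, TensorProduct.tmul_smul, ← algebraMap_smul B' ((s ω) i) ((1 : B') ⊗ₜ[B] i), map_smul]
    rfl
  have hrs : ∀ x, r' (s' x) = x := by
    intro x
    obtain ⟨y, rfl⟩ := e.surjective x
    show r' (g.liftBaseChange B' (e.symm (e y))) = e y
    rw [e.symm_apply_apply]
    induction y using TensorProduct.induction_on with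
    | zero => simp
    | add a b ha hb => rw [map_add, map_add, map_add, ha, hb]
    | tmul c ω =>
      rw [LinearMap.liftBaseChange_tmul, map_smul, hg, ← map_smul, TensorProduct.smul_tmul', smul_eq_mul,
        mul_one]
  refine ⟨Finsupp.linearCombination B' (fun i => (MvPolynomial.X i : MvPolynomial Ω B')) ∘ₗ s',
    fun b => ?_, fun ω => ?_, fun ι _ => ⟨eval_injective_of_retraction s' r' hrs, fun t => ?_⟩⟩
  · have he : e.symm (KaehlerDifferential.D A' B' (algebraMap B B' b)) =
        1 ⊗ₜ KaehlerDifferential.D A B b := by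
      rw [LinearEquiv.symm_apply_eq, KaehlerDifferential.tensorKaehlerEquiv_tmul_D, one_smul]
    show Finsupp.linearCombination B' _ (g.liftBaseChange B' (e.symm _)) = _
    rw [he, LinearMap.liftBaseChange_tmul, one_smul]
    show Finsupp.linearCombination B' _ (Finsupp.mapRange _ (map_zero _) _) =
      MvPolynomial.map _ (Finsupp.linearCombination B _ _)
    rw [Finsupp.linearCombination_apply, Finsupp.sum_mapRange_index (by simp),
      Finsupp.linearCombination_apply, map_finsuppSum]
    refine Finsupp.sum_congr fun i _ => ?_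
    rw [MvPolynomial.smul_eq_C_mul, MvPolynomial.smul_eq_C_mul, map_mul, MvPolynomial.map_C, MvPolynomial.map_X]
    rfl
  · rw [LinearMap.comp_apply, Finsupp.linearCombination_apply]
    exact Ideal.sum_mem _ fun i _ => Submodule.smul_of_tower_mem _ _ (Ideal.subset_span ⟨i, rfl⟩)
  · have ht : t ∈ Submodule.span B' (Set.range
        (SymmetricPower.tprod B' (ι := ι) (M := KaehlerDifferential A' B'))) := by
      rw [SymmetricPower.span_tprod_eq_top]; trivial
    induction ht using Submodule.span_induction with
    | mem y hy =>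
      obtain ⟨x, rfl⟩ := hy
      rw [SymPow.eval_tprod, show Fintype.card ι = ∑ _i : ι, 1 by simp]
      refine MvPolynomial.IsHomogeneous.prod _ _ _ fun i _ => ?_
      rw [LinearMap.comp_apply, Finsupp.linearCombination_apply]
      exact MvPolynomial.IsHomogeneous.sum _ _ _ fun j _ =>
        (MvPolynomial.homogeneousSubmodule _ _ 1).smul_mem _ (MvPolynomial.isHomogeneous_X B' j)
    | zero => rw [map_zero]; exact MvPolynomial.isHomogeneous_zero ..
    | add a c _ _ ha hc => rw [map_add]; exact ha.add hc
    | smul r a _ ha => rw [map_smul]; exact (MvPolynomial.homogeneousSubmodule _ _ _).smul_mem r ha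

theorem exists_second_pushout {Q : Type u} [CommRing Q] [Algebra A Q] [Algebra A' Q] [Algebra B Q]
    [Algebra B' Q] [IsScalarTower A A' Q] [IsScalarTower A' B' Q] [IsScalarTower B B' Q]
    (δ₀ : B →ₐ[A] Q) (N : Ideal Q) (L : KaehlerDifferential A' B' →ₗ[B'] Q) (hL : ∀ ω, L ω ∈ N)
    (h : ∀ b, δ₀ b - algebraMap B Q b - L (KaehlerDifferential.D A' B' (algebraMap B B' b)) ∈ N ^ 2) :
    ∃ δ : B' →ₐ[A'] Q, ∀ x, δ x - algebraMap B' Q x - L (KaehlerDifferential.D A' B' x) ∈ N ^ 2 := by
  let g := IsScalarTower.toAlgHom A A' Q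
  let δ : B' →ₐ[A'] Q :=
    { Algebra.pushoutDesc B' δ₀ g fun _ _ => Commute.all _ _ with
      commutes' := fun a => (Algebra.pushoutDesc_right B' δ₀ g _ a) }
  let err : B' → Q := fun x => δ x - algebraMap B' Q x - L (KaehlerDifferential.D A' B' x)
  have hadd : ∀ x y, err x ∈ N ^ 2 → err y ∈ N ^ 2 → err (x + y) ∈ N ^ 2 := fun x y hx hy => by
    have : err (x + y) = err x + err y := by simp only [err, map_add]; ring
    rw [this]; exact add_mem hx hy
  have hsub : ∀ x, err x ∈ N ^ 2 → δ x - algebraMap B' Q x ∈ N := fun x hx => by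
    have := add_mem (Ideal.pow_le_self two_ne_zero hx) (hL (KaehlerDifferential.D A' B' x))
    simpa [err] using this
  have hmul : ∀ x y, err x ∈ N ^ 2 → err y ∈ N ^ 2 → err (x * y) ∈ N ^ 2 := fun x y hx hy => by
    have e : err (x * y) = (δ x - algebraMap B' Q x) * (δ y - algebraMap B' Q y) +
        algebraMap B' Q x * err y + algebraMap B' Q y * err x := by
      simp only [err, map_mul, Derivation.leibniz, map_add, LinearMap.map_smul, Algebra.smul_def]
      ring
    rw [e]
    refine add_mem (add_mem ?_ (Ideal.mul_mem_left _ _ hy)) (Ideal.mul_mem_left _ _ hx)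
    rw [pow_two]
    exact Ideal.mul_mem_mul (hsub x hx) (hsub y hy)
  have hb : ∀ b, err (algebraMap B B' b) ∈ N ^ 2 := fun b => by
    show δ (algebraMap B B' b) - _ - _ ∈ _
    rw [show δ (algebraMap B B' b) = δ₀ b from Algebra.pushoutDesc_left B' δ₀ g _ b,
      ← IsScalarTower.algebraMap_apply]
    exact h b
  have ha : ∀ a, err (algebraMap A' B' a) ∈ N ^ 2 := fun a => by
    simp [err, AlgHom.commutes, ← IsScalarTower.algebraMap_apply]
  refine ⟨δ, fun x => ?_⟩
  obtain ⟨x, rfl⟩ := (Algebra.IsPushout.equiv A B A' B').surjective x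
  induction x using TensorProduct.induction_on with
  | zero => rw [map_zero, map_zero, map_zero, map_zero, map_zero, sub_zero, sub_zero]; exact zero_mem _
  | add u v hu hv => rw [map_add]; exact hadd _ _ hu hv
  | tmul b a => rw [Algebra.IsPushout.equiv_tmul]; exact hmul _ _ (hb b) (ha a)

end Pushout

end Groth.Agent.H06PP.SmoothBC
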